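import Groth.Agent.Branch.Sep
import Groth.Agent.Hensel.Henselization

/-!
# Unibranch local rings and (strict) henselizations
-/

set_option autoImplicit false
universe u

open TensorProduct IsLocalRing

namespace Groth.Agent.Branch

variable {A S : Type u} [CommRing A] [IsLocalRing A] [CommRing S] [IsLocalRing S] [Algebra A S]
  [IsLocalHom (algebraMap A S)]

theorem nontrivial_normRed : Nontrivial (CAlg2.normRed A) := by
  haveI : Nontrivial (CAlg2.red A) := Ideal.Quotient.nontrivial_iff.2 fun h => by
    have h1 : (1 : A) ∈ nilradical A := h ▸ Submodule.mem_top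
    exact not_isNilpotent_one (mem_nilradical.1 h1)
  exact inferInstance

theorem nontrivial_tensor [Module.FaithfullyFlat A S] : Nontrivial (CAlg2.normRed A ⊗[A] S) := by
  haveI := nontrivial_normRed (A := A)
  obtain ⟨m, hm⟩ := Ideal.exists_maximal (CAlg2.normRed A)
  obtain ⟨P, -⟩ := PrimeSpectrum.comap_surjective_of_faithfullyFlat
    (A := CAlg2.normRed A) (B := CAlg2.normRed A ⊗[A] S) ⟨m, hm.isPrime⟩
  exact ⟨⟨0, 1, fun h => P.2.ne_top ((Ideal.eq_top_iff_one _).2 (h ▸ P.asIdeal.zero_mem))⟩⟩

theorem unibranch_of_unique [HenselianLocalRing S] [Module.FaithfullyFlat A S]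
    (hT : Hensel.TrivialFibres A S) (hS : Smoothing.IndSmooth A S) (h : CAlgX.HasUniqueMinimalPrime S) :
    CAlg2.IsUnibranch A ∧ ∃! m : Ideal (CAlg2.normRed A ⊗[A] S), m.IsMaximal := by
  have hA := hasUniqueMinimalPrime_base (A := A) h
  haveI := finite_of_unique hA
  have hW := (hasUniqueMinimal_iff_unique_maximal hT hS).1 h
  exact ⟨⟨isDomain_red_of_unique hA, isLocalRing_normRed_of_unique_maximal hW⟩, hW⟩

theorem isUnibranch_iff [Hensel.IsHenselization A S] :
    CAlg2.IsUnibranch A ↔ CAlgX.HasUniqueMinimalPrime S := by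
  haveI := Hensel.henselization_faithfullyFlat (R := A) (S := S)
  haveI : HenselianLocalRing S := _root_.Hensel.IsHenselization.henselian (R := A)
  obtain ⟨e⟩ := Hensel.exists_algEquiv_hens (R := A) (S := S)
  have hT := Hensel.henselization_trivialFibres (R := A) (S := S)
  have hS := NormSH.indSmooth_hens e
  refine ⟨fun ⟨h1, h2⟩ => ?_, fun h => (unibranch_of_unique hT hS h).1⟩
  haveI := h1; haveI := h2
  haveI := finite_of_unique (unique_of_isDomain_red (A := A))
  haveI := nontrivial_tensor (A := A) (S := S)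
  exact (hasUniqueMinimal_iff_unique_maximal hT hS).2
    (unique_maximal_of_residue_surjective Hensel.henselization_residue_surjective)

/-- The condition in the definition, for the unique maximal ideal. -/
theorem insep_iff [h2 : IsLocalRing (CAlg2.normRed A)] :
    (∀ (m' : Ideal (CAlg2.normRed A)) [m'.IsMaximal],
      letI f : A →+* CAlg2.normRed A ⧸ m' :=
        (Ideal.Quotient.mk m').comp ((algebraMap (CAlg2.red A) (CAlg2.normRed A)).comp (Ideal.Quotient.mk (nilradical A)))
      ∀ x : CAlg2.normRed A ⧸ m', ∃ n : ℕ, x ^ (ringExpChar (CAlg2.normRed A ⧸ m')) ^ n ∈ f.range) ↔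
    ∀ y : CAlg2.normRed A, ∃ (n : ℕ) (a : A),
      y ^ ringExpChar (ResidueField (CAlg2.normRed A)) ^ n - algebraMap A _ a ∈ maximalIdeal (CAlg2.normRed A) := by
  constructor
  · intro h y
    obtain ⟨n, a, ha⟩ := h (maximalIdeal (CAlg2.normRed A)) (Ideal.Quotient.mk _ y)
    refine ⟨n, a, ?_⟩
    rw [← map_pow] at ha
    exact Ideal.Quotient.eq.1 ha.symm
  · intro h m' hm' x
    obtain rfl := IsLocalRing.eq_maximalIdeal hm'
    obtain ⟨y, rfl⟩ := Ideal.Quotient.mk_surjective x
    obtain ⟨n, a, ha⟩ := h y
    refine ⟨n, a, ?_⟩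
    rw [← map_pow]
    exact (Ideal.Quotient.eq.2 ha).symm

theorem isGeomUnibranch_iff [Hensel.IsStrictHenselization A S] :
    CAlg2.IsGeomUnibranch A ↔ CAlgX.HasUniqueMinimalPrime S := by
  haveI := Hensel.strictHenselization_faithfullyFlat (R := A) (S := S)
  haveI : HenselianLocalRing S := _root_.Hensel.IsStrictHenselization.henselian (R := A)
  obtain ⟨e, -⟩ := Hensel.exists_algEquiv_hens_strict (R := A) (S := S)
  have hT := Hensel.strictHenselization_trivialFibres (R := A) (S := S)
  have hS := NormSH.indSmooth_hens e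
  constructor
  · rintro ⟨⟨h1, h2⟩, h3⟩
    haveI := h1; haveI := h2
    haveI := finite_of_unique (unique_of_isDomain_red (A := A))
    haveI := nontrivial_tensor (A := A) (S := S)
    exact (hasUniqueMinimal_iff_unique_maximal hT hS).2 (unique_maximal_of_insep ((insep_iff (A := A)).1 h3))
  · intro h
    obtain ⟨hu, hW⟩ := unibranch_of_unique hT hS h
    haveI := hu.2
    haveI : IsSepClosure (ResidueField A) (ResidueField S) := _root_.Hensel.IsStrictHenselization.isSepClosure
    haveI : IsSepClosed (ResidueField S) := IsSepClosure.sep_closed (ResidueField A)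
    exact ⟨hu, (insep_iff (A := A)).2 fun y => insep_of_unique_maximal hW y⟩

/-- Finitely many minimal primes and local normalisation imply unibranch. -/
theorem isUnibranch_of_isLocalRing_normRed [Finite (minimalPrimes A)] [h2 : IsLocalRing (CAlg2.normRed A)] :
    CAlg2.IsUnibranch A := by
  haveI : IsLocalization.AtPrime A (maximalIdeal A) := IsLocalization.self fun s hs =>
    IsLocalRing.notMem_maximalIdeal.1 hs
  obtain ⟨_, _, _, hH, -, -⟩ := Hensel.isHenselization_hens (A := A) (R := A) (maximalIdeal A)
  haveI := hH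
  haveI := Hensel.henselization_faithfullyFlat (R := A) (S := Hensel.Hens A (ResidueField A))
  haveI : HenselianLocalRing (Hensel.Hens A (ResidueField A)) := hH.henselian
  obtain ⟨e⟩ := Hensel.exists_algEquiv_hens (R := A) (S := Hensel.Hens A (ResidueField A))
  haveI := nontrivial_tensor (A := A) (S := Hensel.Hens A (ResidueField A))
  refine isUnibranch_iff.2 ((hasUniqueMinimal_iff_unique_maximal
    (Hensel.henselization_trivialFibres (R := A)) (NormSH.indSmooth_hens e)).2
    (unique_maximal_of_residue_surjective Hensel.henselization_residue_surjective))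

theorem isDomain_iff [IsReduced S] : IsDomain S ↔ CAlgX.HasUniqueMinimalPrime S := by
  constructor
  · intro _
    exact ⟨⊥, ⟨⟨Ideal.isPrime_bot, bot_le⟩, fun q _ _ => bot_le⟩, fun q hq =>
      le_antisymm (hq.2 ⟨Ideal.isPrime_bot, bot_le⟩ bot_le) bot_le⟩
  · intro h
    haveI : (⊥ : Ideal S).IsPrime := by
      obtain ⟨p, hp, hu⟩ := h
      have : nilradical S = p := by
        rw [nilradical, ← Ideal.sInf_minimalPrimes]
        exact le_antisymm (sInf_le hp) (le_sInf fun q hq => (hu q hq).ge)
      rw [show (⊥ : Ideal S) = p by rw [← this]; exact (nilradical_eq_zero S).symm]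
      exact hp.1.1
    exact IsDomain.of_bot_isPrime S

end Groth.Agent.Branch
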