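import Groth.Agent.Branch.SmoothScheme
import Groth.Agent.Branch.Main
import Groth.Agent.Hensel.Henselization
import Groth.Agent.IrredComp.Basic

/-!
# Unibranch points and etale neighbourhoods
-/

set_option autoImplicit false
universe u

open CategoryTheory AlgebraicGeometry IsLocalRing Polynomial

namespace Groth.Agent.Branch

open Groth.Agent.Hensel

section AtPrime

variable {R A K : Type u} [CommRing R] [CommRing A] [IsLocalRing A] [Algebra R A] (p : Ideal R) [p.IsPrime]
  [IsLocalization.AtPrime A p] [Field K] [Algebra R K] [Algebra A K] [IsScalarTower R A K]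
  [Algebra (ResidueField A) K] [IsScalarTower A (ResidueField A) K] [Algebra.IsSeparable (ResidueField A) K]

include p A in
omit [Algebra.IsSeparable (ResidueField A) K] in
theorem isUnit_algebraMap_hens (y : p.primeCompl) : IsUnit (algebraMap R (Hens R K) y) := by
  refine Hens.isUnit_of_isUnit_π ?_
  rw [AlgHom.commutes, IsScalarTower.algebraMap_apply R A K]
  exact (IsLocalization.map_units A y).map _

include p A in
theorem π_surjective_atPrime : Function.Surjective (Hens.π R K) := by
  intro a
  have hsep : (minpoly (ResidueField A) a).Separable := Algebra.IsSeparable.isSeparable _ a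
  obtain ⟨f, hf, -, hfm⟩ := Polynomial.lifts_and_degree_eq_and_monic
    ((Polynomial.lifts_iff_coeff_lifts _).mpr fun n ↦ residue_surjective _) (minpoly.monic (Algebra.IsSeparable.isIntegral (ResidueField A) a))
  obtain ⟨⟨s, hs⟩, hsi⟩ := IsLocalization.exist_integer_multiples p.primeCompl (Finset.range (f.natDegree + 1)) f.coeff
  let Rs := Localization.Away s
  let j : Rs →+* A := IsLocalization.Away.lift s (IsLocalization.map_units A (⟨s, hs⟩ : p.primeCompl))
  have hjR : ∀ r, j (algebraMap R Rs r) = algebraMap R A r := fun r => IsLocalization.Away.lift_eq s _ r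
  have hlift : f ∈ Polynomial.lifts j := by
    rw [Polynomial.lifts_iff_coeff_lifts]
    intro n
    by_cases hn : n < f.natDegree + 1
    · obtain ⟨r, hr⟩ := hsi n (Finset.mem_range.2 hn)
      refine ⟨algebraMap R Rs r * IsLocalization.Away.invSelf s, ?_⟩
      rw [map_mul, hjR, hr]
      show s • f.coeff n * _ = _
      rw [Algebra.smul_def, mul_comm (algebraMap R A s), mul_assoc]
      conv_rhs => rw [← mul_one (f.coeff n)]
      congr 1
      rw [← hjR, ← map_mul, IsLocalization.Away.mul_invSelf, map_one]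
    · exact ⟨0, by rw [map_zero, Polynomial.coeff_eq_zero_of_natDegree_lt (by omega)]⟩
  obtain ⟨g, hg, -, hgm⟩ := Polynomial.lifts_and_natDegree_eq_and_monic hlift hfm
  letI : Algebra Rs K := ((algebraMap A K).comp j).toAlgebra
  haveI : IsScalarTower R Rs K := IsScalarTower.of_algebraMap_eq fun r => by
    show _ = algebraMap A K (j (algebraMap R Rs r))
    rw [hjR, ← IsScalarTower.algebraMap_apply]
  let P : StandardEtalePair Rs := ⟨g, hgm, Polynomial.derivative g, ⟨1, 0, 1, by simp⟩⟩
  have haev : ∀ h : Polynomial Rs, Polynomial.aeval a h = Polynomial.aeval a ((h.map j).map (residue A)) := fun h ↦ by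
    rw [← IsLocalRing.ResidueField.algebraMap_eq, Polynomial.aeval_map_algebraMap, Polynomial.aeval_def,
      Polynomial.aeval_def, Polynomial.eval₂_map]
    rfl
  have hP : P.HasMap a := by
    refine ⟨?_, ?_⟩
    · show Polynomial.aeval a g = 0
      rw [haev, hg, hf, minpoly.aeval]
    · show IsUnit (Polynomial.aeval a (Polynomial.derivative g))
      rw [haev, ← Polynomial.derivative_map, ← Polynomial.derivative_map, hg, hf, isUnit_iff_ne_zero]
      exact hsep.aeval_derivative_ne_zero (minpoly.aeval _ _)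
  letI : Algebra R P.Ring := ((algebraMap Rs P.Ring).comp (algebraMap R Rs)).toAlgebra
  haveI : IsScalarTower R Rs P.Ring := .of_algebraMap_eq' rfl
  haveI : Algebra.Etale R Rs := Algebra.Etale.of_isLocalizationAway s
  haveI : Algebra.Etale R P.Ring := Algebra.Etale.comp R Rs P.Ring
  obtain ⟨φ, hφ⟩ := Hens.exists_algHom P.Ring ((P.lift a hP).restrictScalars R)
  exact ⟨φ P.X, (DFunLike.congr_fun hφ P.X).trans (by simp)⟩

include p in
/-- `Hens` may be computed over the local ring. -/
theorem exists_hens_ringEquiv : ∃ e : Hens R K ≃+* Hens A K,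
    ∀ r, e (algebraMap R (Hens R K) r) = algebraMap A (Hens A K) (algebraMap R A r) := by
  let T := Hens R K
  let j : A →+* T := IsLocalization.lift (M := p.primeCompl) (isUnit_algebraMap_hens (A := A) p)
  letI : Algebra A T := j.toAlgebra
  haveI : IsScalarTower R A T := IsScalarTower.of_algebraMap_eq fun r => (IsLocalization.lift_eq _ r).symm
  have hπA : (Hens.π R K).toRingHom.comp (algebraMap A T) = algebraMap A K := by
    refine IsLocalization.ringHom_ext p.primeCompl (RingHom.ext fun r => ?_)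
    simp only [RingHom.comp_apply, ← IsScalarTower.algebraMap_apply]
    exact (Hens.π R K).commutes r
  let πA : T →ₐ[A] K := { (Hens.π R K).toRingHom with commutes' := RingHom.congr_fun hπA }
  have hs : Function.Surjective πA := π_surjective_atPrime (A := A) p
  haveI : HenselianRing T (RingHom.ker πA) := Hens.henselianRing R K
  let ρ : K →ₐ[A] T ⧸ RingHom.ker πA := (Ideal.quotientKerAlgEquivOfSurjective hs).symm.toAlgHom
  obtain ⟨φ, hφ, -⟩ := Hens.existsUnique_lift (R := A) (K := K) ρ
  have hφπ : ∀ z, πA (φ z) = Hens.π A K z := fun z => by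
    have h1 := congrArg (Ideal.quotientKerAlgEquivOfSurjective hs) (DFunLike.congr_fun hφ z)
    simp only [AlgHom.comp_apply, ρ, AlgEquiv.coe_toAlgHom, AlgEquiv.apply_symm_apply] at h1
    exact h1
  let U := Hens A K
  letI : Algebra R U := ((algebraMap A U).comp (algebraMap R A)).toAlgebra
  haveI : IsScalarTower R A U := IsScalarTower.of_algebraMap_eq' rfl
  let πR : U →ₐ[R] K := (Hens.π A K).restrictScalars R
  have hs' : Function.Surjective πR := π_surjective_of_isSeparable (R := A) (K := K)
  haveI : HenselianRing U (RingHom.ker πR) := Hens.henselianRing A K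
  let ρ' : K →ₐ[R] U ⧸ RingHom.ker πR := (Ideal.quotientKerAlgEquivOfSurjective hs').symm.toAlgHom
  obtain ⟨ψ, hψ, -⟩ := Hens.existsUnique_lift (R := R) (K := K) ρ'
  have hψπ : ∀ z, πR (ψ z) = Hens.π R K z := fun z => by
    have h1 := congrArg (Ideal.quotientKerAlgEquivOfSurjective hs') (DFunLike.congr_fun hψ z)
    simp only [AlgHom.comp_apply, ρ', AlgEquiv.coe_toAlgHom, AlgEquiv.apply_symm_apply] at h1
    exact h1
  have h1 : (φ.restrictScalars R).comp ψ = AlgHom.id R T :=
    Hens.algHom_ext_π (AlgHom.ext fun z => (hφπ (ψ z)).trans (hψπ z)) (AlgHom.comp_id _)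
  have hA : (ψ.toRingHom.comp φ.toRingHom).comp (algebraMap A U) = algebraMap A U := by
    refine IsLocalization.ringHom_ext p.primeCompl (RingHom.ext fun r => ?_)
    show ψ (φ (algebraMap A U (algebraMap R A r))) = algebraMap A U (algebraMap R A r)
    rw [φ.commutes, ← IsScalarTower.algebraMap_apply R A T, ψ.commutes, IsScalarTower.algebraMap_apply R A U]
  let g : U →ₐ[A] U := { ψ.toRingHom.comp φ.toRingHom with commutes' := RingHom.congr_fun hA }
  have h2 : g = AlgHom.id A U :=
    Hens.algHom_ext_π (AlgHom.ext fun z => (hψπ (φ z)).trans (hφπ z)) (AlgHom.comp_id _)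
  exact ⟨RingEquiv.ofRingHom ψ.toRingHom φ.toRingHom (RingHom.ext fun z => DFunLike.congr_fun h2 z)
    (RingHom.ext fun z => DFunLike.congr_fun h1 z), fun r => (ψ.commutes r).trans (IsScalarTower.algebraMap_apply R A U r)⟩

include p in
theorem nonempty_hens_ringEquiv : Nonempty (Hens R K ≃+* Hens A K) :=
  ⟨(exists_hens_ringEquiv (A := A) p).choose⟩

end AtPrime

section Stages

variable {R K : Type u} [CommRing R] [Field K] [Algebra R K]

theorem isPrime_nilradical_iff_unique {A : Type u} [CommRing A] :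
    (nilradical A).IsPrime ↔ CAlgX.HasUniqueMinimalPrime A :=
  ⟨fun h => by haveI : IsDomain (CAlg2.red A) := (Ideal.Quotient.isDomain_iff_prime _).2 h; exact unique_of_isDomain_red,
    fun h => (Ideal.Quotient.isDomain_iff_prime _).1 (isDomain_red_of_unique h)⟩

theorem isPrime_nilradical_of_injective {A B : Type u} [CommRing A] [CommRing B] (f : A →+* B)
    (hf : Function.Injective f) (h : (nilradical B).IsPrime) : (nilradical A).IsPrime := by
  have : nilradical A = (nilradical B).comap f := by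
    ext x
    simp only [Ideal.mem_comap, mem_nilradical]
    exact ⟨fun hx => hx.map f, fun ⟨n, hn⟩ => ⟨n, hf (by rw [map_pow, map_zero, hn])⟩⟩
  rw [this]
  exact h.comap f

instance (X : Nbhd R K) : (RingHom.ker X.point.toRingHom).IsPrime := RingHom.ker_isPrime _

/-- The map of a stage localized at its point. -/
noncomputable def stageMap (X : Nbhd R K) : Localization.AtPrime (RingHom.ker X.point.toRingHom) →+* Hens R K :=
  IsLocalization.lift (M := (RingHom.ker X.point.toRingHom).primeCompl) (g := (Hens.of X).toRingHom) fun y => by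
    refine Hens.isUnit_of_isUnit_π ?_
    show IsUnit (Hens.π R K (Hens.of X y))
    rw [Hens.π_of]
    exact isUnit_iff_ne_zero.2 y.2

theorem stageMap_injective (X : Nbhd R K) : Function.Injective (stageMap X) := by
  rw [injective_iff_map_eq_zero]
  intro z hz
  obtain ⟨x, s, rfl⟩ := IsLocalization.exists_mk'_eq (RingHom.ker X.point.toRingHom).primeCompl z
  rw [stageMap, IsLocalization.lift_mk', Units.mul_left_eq_zero] at hz
  have h0 : Hens.of X x = Hens.of X 0 := by rw [map_zero]; exact hz
  obtain ⟨Y, f, hf⟩ := (Hens.of_eq_iff x 0).1 h0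
  rw [map_zero] at hf
  letI := f.1.toRingHom.toAlgebra
  haveI : IsScalarTower R X.carrier Y.carrier := IsScalarTower.of_algebraMap_eq fun r => (f.1.commutes r).symm
  haveI : Algebra.Etale X.carrier Y.carrier := Algebra.Etale.of_restrictScalars R X.carrier Y.carrier
  let q := RingHom.ker X.point.toRingHom
  let q' := RingHom.ker Y.point.toRingHom
  haveI : q'.LiesOver q := ⟨by ext e; exact (Iff.of_eq (congrArg (· = 0) (Nbhd.pt_hom f e))).symm⟩
  letI := Localization.AtPrime.algebraOfLiesOver q q'
  haveI : Module.Flat X.carrier (Localization.AtPrime q') := Module.Flat.trans X.carrier Y.carrier _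
  haveI : Module.Flat (Localization.AtPrime q) (Localization.AtPrime q') :=
    (Module.flat_iff_of_isLocalization (Localization.AtPrime q) q.primeCompl _).2 inferInstance
  haveI : IsLocalHom (algebraMap (Localization.AtPrime q) (Localization.AtPrime q')) :=
    Localization.isLocalHom_localRingHom _ _ _ _
  haveI := Module.FaithfullyFlat.of_flat_of_isLocalHom (A := Localization.AtPrime q) (B := Localization.AtPrime q')
  have hinj := FaithfulSMul.algebraMap_injective (Localization.AtPrime q) (Localization.AtPrime q')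
  have hx : algebraMap X.carrier (Localization.AtPrime q) x = 0 := by
    refine hinj ?_
    rw [map_zero, ← IsScalarTower.algebraMap_apply, IsScalarTower.algebraMap_apply X.carrier Y.carrier (Localization.AtPrime q')]
    show algebraMap Y.carrier _ (f.1 x) = 0
    rw [hf, map_zero]
  rw [IsLocalization.mk'_eq_zero_iff]
  obtain ⟨t, ht⟩ := (IsLocalization.map_eq_zero_iff q.primeCompl _ _).1 hx
  exact ⟨t, ht⟩

theorem isPrime_nilradical_hens_iff : (nilradical (Hens R K)).IsPrime ↔
    ∀ X : Nbhd R K, (nilradical (Localization.AtPrime (RingHom.ker X.point.toRingHom))).IsPrime := by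
  refine ⟨fun h X => isPrime_nilradical_of_injective _ (stageMap_injective X) h, fun h => ⟨?_, ?_⟩⟩
  · rw [Ne, Ideal.eq_top_iff_one, mem_nilradical]
    rintro ⟨n, hn⟩
    exact one_ne_zero ((one_pow n).symm.trans hn)
  · intro a b hab
    obtain ⟨X, a', b', rfl, rfl⟩ := Hens.exists_rep₂ a b
    obtain ⟨n, hn⟩ := mem_nilradical.1 hab
    rw [← map_mul, ← map_pow, ← map_zero (Hens.of X)] at hn
    obtain ⟨Y, f, hf⟩ := (Hens.of_eq_iff _ _).1 hn
    rw [map_zero, map_pow, map_mul] at hf
    have h1 : algebraMap Y.carrier (Localization.AtPrime (RingHom.ker Y.point.toRingHom)) (f.1 a') *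
        algebraMap _ _ (f.1 b') ∈ nilradical _ :=
      mem_nilradical.2 ⟨n, by rw [← map_mul, ← map_pow, hf, map_zero]⟩
    have h2 : ∀ e : Y.carrier, algebraMap Y.carrier (Localization.AtPrime (RingHom.ker Y.point.toRingHom)) e ∈ nilradical _ →
        Hens.of Y e ∈ nilradical (Hens R K) := fun e he => by
      have h3 : IsNilpotent (stageMap Y (algebraMap Y.carrier _ e)) := (mem_nilradical.1 he).map (stageMap Y)
      rw [stageMap, IsLocalization.lift_eq] at h3
      exact mem_nilradical.2 h3
    rw [← Hens.of_hom f a', ← Hens.of_hom f b']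
    exact ((h Y).mem_or_mem h1).imp (h2 _) (h2 _)

end Stages

section Scheme

theorem encard_components_eq_one_iff {U : Scheme.{u}} (v : U) :
    {Z : Set ↑U | Z ∈ irreducibleComponents ↑U ∧ v ∈ Z}.encard = 1 ↔
      (nilradical (U.presheaf.stalk v)).IsPrime := by
  rw [IrredComp.isPrime_nilradical_stalk_iff, Set.encard_eq_one]
  constructor
  · rintro ⟨Z0, hZ0⟩ Z hZ Z' hZ' hv hv'
    have h1 : Z ∈ ({Z0} : Set (Set U)) := hZ0 ▸ ⟨hZ, hv⟩
    have h2 : Z' ∈ ({Z0} : Set (Set U)) := hZ0 ▸ ⟨hZ', hv'⟩
    exact (Set.mem_singleton_iff.1 h1).trans (Set.mem_singleton_iff.1 h2).symm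
  · intro h
    refine ⟨irreducibleComponent v, Set.eq_singleton_iff_unique_mem.2
      ⟨⟨irreducibleComponent_mem_irreducibleComponents v, mem_irreducibleComponent⟩, fun Z hZ => ?_⟩⟩
    exact h Z hZ.1 _ (irreducibleComponent_mem_irreducibleComponents v) hZ.2 mem_irreducibleComponent

theorem isPrime_nilradical_of_ringEquiv {A B : Type u} [CommRing A] [CommRing B] (e : A ≃+* B)
    (h : (nilradical B).IsPrime) : (nilradical A).IsPrime :=
  isPrime_nilradical_of_injective e.toRingHom e.injective h

theorem isPrime_nilradical_of_geomUnibranch {A : Type u} [CommRing A] [IsLocalRing A]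
    (h : CAlg2.IsGeomUnibranch A) : (nilradical A).IsPrime :=
  (Ideal.Quotient.isDomain_iff_prime _).1 h.1.1

theorem residue_surjective_respectsIso : RingHom.RespectsIso
    fun {R S} [CommRing R] [CommRing S] (f : R →+* S) => ∀ b, ∃ a, ¬ IsUnit (b - f a) := by
  refine ⟨fun f e hf b => ?_, fun f e hf b => ?_⟩
  · obtain ⟨a, ha⟩ := hf (e.symm b)
    refine ⟨a, fun hu => ha ?_⟩
    have := hu.map e.symm
    simpa using this
  · obtain ⟨a, ha⟩ := hf b
    exact ⟨e.symm a, by simpa using ha⟩

theorem residueFieldMap_surjective_of {X Y : Scheme.{u}} (g : X ⟶ Y) (v : X)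
    (h : ∀ b : X.presheaf.stalk v, ∃ a, ¬ IsUnit (b - g.stalkMap v a)) :
    Function.Surjective (g.residueFieldMap v) := by
  intro z
  obtain ⟨b, rfl⟩ := X.residue_surjective v z
  obtain ⟨a, ha⟩ := h b
  refine ⟨Y.residue (g v) a, ?_⟩
  show residue (X.presheaf.stalk v) (g.stalkMap v a) = residue _ b
  exact (Ideal.Quotient.eq.2 (by simpa using (maximalIdeal (X.presheaf.stalk v)).neg_mem (show b - g.stalkMap v a ∈ maximalIdeal _ from ha)))

theorem localRingHom_residue_surjective {R E : Type u} [CommRing R] [CommRing E] (φ : R →+* E) (J : Ideal E) [J.IsPrime]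
    (h : ∀ c, ∀ t ∉ J, ∃ r s, φ s ∉ J ∧ c * φ s - φ r * t ∈ J) (b : Localization.AtPrime J) :
    ∃ a, ¬ IsUnit (b - Localization.localRingHom (J.comap φ) J φ rfl a) := by
  obtain ⟨c, ⟨t, ht⟩, rfl⟩ := IsLocalization.exists_mk'_eq J.primeCompl b
  obtain ⟨r, s, hs, hm⟩ := h c t ht
  refine ⟨IsLocalization.mk' _ r (⟨s, hs⟩ : (J.comap φ).primeCompl), ?_⟩
  rw [Localization.localRingHom_mk', ← IsLocalization.mk'_sub]
  exact (IsLocalization.AtPrime.mk'_mem_maximal_iff _ J _ _).2 hm

/-- A point with (geometrically) unibranch stalk detected on stages. -/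
theorem of_forall_nbhds {X : Scheme.{u}} (x : X) {V : X.Opens} (hV : IsAffineOpen V) (hx : x ∈ V) (K : Type u) [Field K]
    [Algebra Γ(X, V) K] (hker : ∀ r, algebraMap Γ(X, V) K r = 0 → r ∈ (hV.primeIdealOf ⟨x, hx⟩).asIdeal)
    (h : ∀ (E : Type u) (_ : CommRing E) (_ : Algebra Γ(X, V) E) (_ : Algebra.Etale Γ(X, V) E) (σ : E →ₐ[Γ(X, V)] K)
      (v : ↥(Spec (CommRingCat.of E))), v.asIdeal = RingHom.ker σ.toRingHom →
      (Spec.map (CommRingCat.ofHom (algebraMap Γ(X, V) E)) ≫ hV.fromSpec) v = x →
      {Z : Set ↑(Spec (CommRingCat.of E)) | Z ∈ irreducibleComponents ↑(Spec (CommRingCat.of E)) ∧ v ∈ Z}.encard = 1)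
    (hle : ∀ r ∈ (hV.primeIdealOf ⟨x, hx⟩).asIdeal, algebraMap Γ(X, V) K r = 0) :
    (nilradical (Hens Γ(X, V) K)).IsPrime := by
  rw [isPrime_nilradical_hens_iff]
  intro N
  let v : ↥(Spec (CommRingCat.of N.carrier)) := ⟨RingHom.ker N.point.toRingHom, inferInstance⟩
  have hv : Spec.map (CommRingCat.ofHom (algebraMap Γ(X, V) N.carrier)) v = hV.primeIdealOf ⟨x, hx⟩ := by
    refine PrimeSpectrum.ext (Ideal.ext fun r => ?_)
    show N.point (algebraMap Γ(X, V) N.carrier r) = 0 ↔ _
    rw [AlgHom.commutes]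
    exact ⟨hker r, hle r⟩
  have h1 := (encard_components_eq_one_iff v).1 (h N.carrier inferInstance inferInstance inferInstance N.point v rfl (by
    rw [Scheme.Hom.comp_apply, hv, IsAffineOpen.fromSpec_primeIdealOf]))
  exact isPrime_nilradical_of_ringEquiv (Spec.stalkIso _ v).commRingCatIsoToRingEquiv.symm h1

theorem isGeomUnibranch_stalk_iff (X : Scheme.{u}) (x : X) :
    CAlg2.IsGeomUnibranch ↑(X.presheaf.stalk x) ↔ ∀ (U : Scheme.{u}) (g : U ⟶ X) (u : U), Etale g → g u = x →
      {Z : Set ↑U | Z ∈ irreducibleComponents ↑U ∧ u ∈ Z}.encard = 1 := by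
  constructor
  · intro h U g v hg hv
    subst hv
    exact (encard_components_eq_one_iff v).2 (isPrime_nilradical_of_geomUnibranch (isGeomUnibranch_stalk_of_smooth g v h).1)
  · intro h
    obtain ⟨_, ⟨V, hV, rfl⟩, hxV, -⟩ :=
      X.isBasis_affineOpens.exists_subset_of_mem_open (Set.mem_univ x) isOpen_univ
    let A := X.presheaf.stalk x
    let K := SeparableClosure (ResidueField A)
    letI : Algebra A K := ((algebraMap (ResidueField A) K).comp (residue A)).toAlgebra
    haveI : IsScalarTower A (ResidueField A) K := .of_algebraMap_eq' rfl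
    letI := TopCat.Presheaf.algebra_section_stalk X.presheaf (⟨x, hxV⟩ : ↥V)
    haveI := hV.isLocalization_stalk ⟨x, hxV⟩
    letI : Algebra Γ(X, V) K := ((algebraMap A K).comp (algebraMap Γ(X, V) A)).toAlgebra
    haveI : IsScalarTower Γ(X, V) A K := .of_algebraMap_eq' rfl
    have hker : ∀ r, algebraMap Γ(X, V) K r = 0 ↔ r ∈ (hV.primeIdealOf ⟨x, hxV⟩).asIdeal := fun r => by
      rw [IsScalarTower.algebraMap_apply Γ(X, V) A K, IsScalarTower.algebraMap_apply A (ResidueField A) K,
        map_eq_zero, IsLocalRing.ResidueField.algebraMap_eq, residue_eq_zero_iff]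
      exact IsLocalization.AtPrime.to_map_mem_maximal_iff A _ r
    have h1 := of_forall_nbhds x hV hxV K (fun r => (hker r).1) (fun E _ _ _ σ v _ hv => h _ _ v (by
      haveI : Etale (Spec.map (CommRingCat.ofHom (algebraMap Γ(X, V) E))) :=
        (HasRingHomProperty.Spec_iff (P := @Etale)).2 (RingHom.etale_algebraMap.2 ‹_›)
      infer_instance) hv) (fun r => (hker r).2)
    obtain ⟨e⟩ := nonempty_hens_ringEquiv (A := A) (K := K) (hV.primeIdealOf ⟨x, hxV⟩).asIdeal
    haveI := isLocalHom_algebraMap_hens (R := A) (K := K)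
    haveI := isStrictHenselization_hens (R := A) (K := K)
    exact (isGeomUnibranch_iff (A := A) (S := Hens A K)).2
      (isPrime_nilradical_iff_unique.1 (isPrime_nilradical_of_ringEquiv e.symm h1))

theorem isUnibranch_stalk_iff (X : Scheme.{u}) (x : X) :
    CAlg2.IsUnibranch ↑(X.presheaf.stalk x) ↔ ∀ (U : Scheme.{u}) (g : U ⟶ X) (u : U), Hens2.IsEtaleNbhd g u x →
      {Z : Set ↑U | Z ∈ irreducibleComponents ↑U ∧ u ∈ Z}.encard = 1 := by
  obtain ⟨_, ⟨V, hV, rfl⟩, hxV, -⟩ :=
    X.isBasis_affineOpens.exists_subset_of_mem_open (Set.mem_univ x) isOpen_univ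
  let A := X.presheaf.stalk x
  let K := ResidueField A
  letI := TopCat.Presheaf.algebra_section_stalk X.presheaf (⟨x, hxV⟩ : ↥V)
  haveI := hV.isLocalization_stalk ⟨x, hxV⟩
  letI : Algebra Γ(X, V) K := ((residue A).comp (algebraMap Γ(X, V) A)).toAlgebra
  haveI : IsScalarTower Γ(X, V) A K := .of_algebraMap_eq' rfl
  have hker : ∀ r, algebraMap Γ(X, V) K r = 0 ↔ r ∈ (hV.primeIdealOf ⟨x, hxV⟩).asIdeal := fun r => by
    show residue A (algebraMap Γ(X, V) A r) = 0 ↔ _
    rw [residue_eq_zero_iff]
    exact IsLocalization.AtPrime.to_map_mem_maximal_iff A _ r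
  obtain ⟨e⟩ := nonempty_hens_ringEquiv (A := A) (K := K) (hV.primeIdealOf ⟨x, hxV⟩).asIdeal
  rw [isUnibranch_iff (A := A) (S := Hens A K), ← isPrime_nilradical_iff_unique]
  constructor
  · intro h U g v hgv
    obtain ⟨hg, hv, hres⟩ := hgv
    obtain ⟨_, ⟨W, hW, rfl⟩, hvW, hWV⟩ :=
      U.isBasis_affineOpens.exists_subset_of_mem_open (show g v ∈ V by rw [hv]; exact hxV) (g ⁻¹ᵁ V).isOpen
    subst hv
    let j := RingEquiv.ofBijective (g.residueFieldMap v).hom hres
    letI := (g.appLE V W hWV).hom.toAlgebra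
    haveI : Algebra.Etale Γ(X, V) Γ(U, W) :=
      RingHom.etale_algebraMap.1 (HasRingHomProperty.appLE (P := @Etale) g hg ⟨V, hV⟩ ⟨W, hW⟩ hWV)
    have hcomm : ∀ r : Γ(X, V), g.residueFieldMap v (residue A (algebraMap Γ(X, V) A r)) =
        U.residue v (U.presheaf.germ W v hvW (g.appLE V W hWV r)) := fun r => by
      show g.residueFieldMap v (X.residue (g v) (X.presheaf.germ V (g v) hxV r)) = _
      show U.residue v (g.stalkMap v (X.presheaf.germ V (g v) hxV r)) = _
      rw [Scheme.Hom.germ_stalkMap_apply]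
      congr 1
      rw [Scheme.Hom.appLE, CommRingCat.comp_apply, TopCat.Presheaf.germ_res_apply]
    let σ : Γ(U, W) →ₐ[Γ(X, V)] K :=
      { (j.symm.toRingHom.comp ((U.residue v).hom.comp (U.presheaf.germ W v hvW).hom)) with
        commutes' := fun r => by
          show j.symm (U.residue v (U.presheaf.germ W v hvW (g.appLE V W hWV r))) = residue A (algebraMap Γ(X, V) A r)
          rw [← hcomm r]
          exact j.symm_apply_apply (residue A (algebraMap Γ(X, V) A r)) }
    have h2 := (isPrime_nilradical_hens_iff.1 (isPrime_nilradical_of_ringEquiv e h)) (Nbhd.mk' Γ(U, W) σ)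
    let ee := Nbhd.equiv Γ(U, W) σ
    let q := (hW.primeIdealOf ⟨v, hvW⟩).asIdeal
    letI := TopCat.Presheaf.algebra_section_stalk U.presheaf (⟨v, hvW⟩ : ↥W)
    haveI := hW.isLocalization_stalk ⟨v, hvW⟩
    have hσker : ∀ z, σ z = 0 ↔ z ∈ q := fun z => by
      show j.symm (residue (U.presheaf.stalk v) (algebraMap Γ(U, W) (U.presheaf.stalk v) z)) = 0 ↔ _
      refine ((map_eq_zero_iff _ j.symm.injective).trans ?_)
      refine (residue_eq_zero_iff _).trans ?_
      exact IsLocalization.AtPrime.to_map_mem_maximal_iff (U.presheaf.stalk v) q z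
    have hmap : (RingHom.ker (Nbhd.mk' Γ(U, W) σ).point.toRingHom).primeCompl.map ee.toRingEquiv.toMonoidHom = q.primeCompl := by
      ext z
      constructor
      · rintro ⟨y, hy, rfl⟩ hz
        exact hy ((Nbhd.pt_mk' _ σ y).trans ((hσker (ee y)).2 hz))
      · intro hz
        refine ⟨ee.symm z, fun hy => hz ((hσker z).1 ?_), ee.apply_symm_apply z⟩
        have := (Nbhd.pt_mk' _ σ (ee.symm z)).symm.trans hy
        rwa [AlgEquiv.apply_symm_apply] at this
    exact (encard_components_eq_one_iff v).2 (isPrime_nilradical_of_ringEquiv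
      (IsLocalization.ringEquivOfRingEquiv (Localization.AtPrime (RingHom.ker (Nbhd.mk' Γ(U, W) σ).point.toRingHom))
        (U.presheaf.stalk v) ee.toRingEquiv hmap).symm h2)
  · intro h
    refine isPrime_nilradical_of_ringEquiv e.symm ?_
    refine of_forall_nbhds x hV hxV K (fun r => (hker r).1) (fun E _ _ _ σ v hvσ hv => h _ _ v ⟨?_, hv, ?_⟩)
      (fun r => (hker r).2)
    · haveI : Etale (Spec.map (CommRingCat.ofHom (algebraMap Γ(X, V) E))) :=
        (HasRingHomProperty.Spec_iff (P := @Etale)).2 (RingHom.etale_algebraMap.2 ‹_›)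
      infer_instance
    refine ⟨RingHom.injective _, residueFieldMap_surjective_of _ v ?_⟩
    rw [Scheme.Hom.stalkMap_comp]
    refine (residue_surjective_respectsIso.cancel_left_isIso (hV.fromSpec.stalkMap (Spec.map (CommRingCat.ofHom (algebraMap Γ(X, V) E)) v)) ((Spec.map (CommRingCat.ofHom (algebraMap Γ(X, V) E))).stalkMap v)).2 ?_
    refine (residue_surjective_respectsIso.arrow_mk_iso_iff (Scheme.arrowStalkMapSpecIso _ v)).2
      (localRingHom_residue_surjective (algebraMap Γ(X, V) E) v.asIdeal fun c t ht => ?_)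
    have hσ : ∀ y, σ y = 0 ↔ y ∈ v.asIdeal := fun y => by rw [hvσ]; exact Iff.rfl
    obtain ⟨a, ha⟩ := residue_surjective (σ c / σ t)
    obtain ⟨r, ⟨s, hs⟩, rfl⟩ := IsLocalization.exists_mk'_eq (hV.primeIdealOf ⟨x, hxV⟩).asIdeal.primeCompl a
    refine ⟨r, s, fun hy' => hs ((hker s).1 (by rw [← σ.commutes]; exact (hσ _).2 hy')), (hσ _).1 ?_⟩
    rw [map_sub, map_mul, map_mul, sub_eq_zero, AlgHom.commutes, AlgHom.commutes]
    have h3 : residue A (IsLocalization.mk' A r ⟨s, hs⟩) * algebraMap Γ(X, V) K s = algebraMap Γ(X, V) K r := by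
      show _ * residue A (algebraMap Γ(X, V) A s) = residue A (algebraMap Γ(X, V) A r)
      rw [← map_mul, IsLocalization.mk'_spec A r ⟨s, hs⟩]
    rw [ha, div_mul_eq_mul_div, div_eq_iff (fun h0 => ht ((hσ t).1 h0))] at h3
    exact h3

end Scheme

end Groth.Agent.Branch
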