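import Groth.Agent.Branch.Smooth

/-!
# Geometrically unibranch rings under normal base change
-/

set_option autoImplicit false
universe u

open TensorProduct IsLocalRing

namespace Groth.Agent.Branch

theorem isGeomUnibranch_of_integral' {L W : Type u} [CommRing L] [IsLocalRing L] [CommRing W] [IsLocalRing W]
    [IsDomain W] [IsIntegrallyClosed W] [Algebra L W] [Algebra.IsIntegral L W]
    (hker : RingHom.ker (algebraMap L W) ≤ nilradical L)
    (hins : ∀ w : W, ∃ (n : ℕ) (s : L),
      w ^ ringExpChar (ResidueField W) ^ n - algebraMap L W s ∈ maximalIdeal W) :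
    CAlg2.IsGeomUnibranch L := by
  let φ0 : CAlg2.red L →+* W := Ideal.Quotient.lift _ (algebraMap L W) fun x hx =>
    ((mem_nilradical.1 hx).map (algebraMap L W)).eq_zero
  have hφ0 : Function.Injective φ0 := RingHom.lift_injective_of_ker_le_ideal _ _ hker
  haveI hred : IsDomain (CAlg2.red L) := hφ0.isDomain φ0
  let φ : FractionRing (CAlg2.red L) →+* FractionRing W :=
    IsFractionRing.map hφ0
  have hφ : ∀ x, φ (algebraMap (CAlg2.red L) _ x) = algebraMap W (FractionRing W) (φ0 x) := fun x =>
    IsLocalization.map_eq _ x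
  have hint : ∀ y : CAlg2.normRed L, ∃ w : W, algebraMap W (FractionRing W) w = φ y.1 := fun y => by
    have h1 : IsIntegral (CAlg2.red L) y.1 := y.2
    obtain ⟨p, hp, hp'⟩ := h1
    refine IsIntegrallyClosed.isIntegral_iff.1 ⟨p.map φ0, hp.map _, ?_⟩
    rw [Polynomial.eval₂_map, show (algebraMap W (FractionRing W)).comp φ0 = φ.comp (algebraMap (CAlg2.red L) _) from
      (RingHom.ext fun x => (hφ x).symm), ← Polynomial.hom_eval₂, hp', map_zero]
  choose ψ0 hψ0 using hint
  have hWinj := IsFractionRing.injective W (FractionRing W)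
  let ψ : CAlg2.normRed L →+* W :=
    { toFun := ψ0
      map_one' := hWinj (by rw [hψ0, map_one]; exact map_one φ)
      map_mul' := fun x y => hWinj (by rw [hψ0, map_mul, hψ0, hψ0]; exact map_mul φ _ _)
      map_zero' := hWinj (by rw [hψ0, map_zero]; exact map_zero φ)
      map_add' := fun x y => hWinj (by rw [hψ0, map_add, hψ0, hψ0]; exact map_add φ _ _) }
  have hψcomp : ψ.comp (algebraMap L (CAlg2.normRed L)) = algebraMap L W := by
    refine RingHom.ext fun x => hWinj ?_
    rw [RingHom.comp_apply]
    exact (hψ0 _).trans ((hφ (Ideal.Quotient.mk _ x)).trans rfl)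
  have hψinj : Function.Injective ψ := fun x y h => by
    refine Subtype.ext (φ.injective ?_)
    rw [← hψ0, ← hψ0]
    exact congrArg _ h
  have hψint : ψ.IsIntegral :=
    RingHom.IsIntegral.tower_top (algebraMap L (CAlg2.normRed L)) ψ
      (by rw [hψcomp]; exact algebraMap_isIntegral_iff.2 ‹_›)
  haveI : IsLocalHom ψ := hψint.isLocalHom hψinj
  haveI hloc : IsLocalRing (CAlg2.normRed L) := RingHom.domain_isLocalRing ψ
  refine ⟨⟨hred, hloc⟩, (insep_iff (A := L)).2 fun y => ?_⟩
  obtain ⟨n, s, hs⟩ := hins (ψ y)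
  set q := ringExpChar (ResidueField (CAlg2.normRed L)) with hq
  haveI : ExpChar (ResidueField (CAlg2.normRed L)) q := ringExpChar.expChar _
  haveI : ExpChar (ResidueField W) q :=
    expChar_of_injective_ringHom (f := ResidueField.map ψ) (RingHom.injective _) q
  rw [ringExpChar.eq (ResidueField W) q] at hs
  refine ⟨n, s, ?_⟩
  rw [← map_pow, ← hψcomp, RingHom.comp_apply, ← map_sub ψ] at hs
  exact (map_mem_nonunits_iff ψ _).1 hs


theorem isGeomUnibranch_of_normal_baseChange' (R Rt R' B : Type u) [CommRing R] [IsLocalRing R]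
    [CommRing Rt] [IsLocalRing Rt] [Algebra R Rt] [Algebra.IsIntegral R Rt]
    [IsLocalHom (algebraMap R Rt)]
    [CommRing R'] [Algebra R R'] [CommRing B] [Algebra R' B] [Algebra.IsIntegral R' B] (iB : Rt →+* B)
    (hcomp : ∀ a : R, iB (algebraMap R Rt a) = algebraMap R' B (algebraMap R R' a))
    (genB : ∀ P : B → Prop, P 0 → (∀ y x, P (iB y * algebraMap R' B x)) → (∀ z w, P z → P w → P (z + w)) → ∀ z, P z)
    (hBn : EGA4.IsNormalRing B) (hkerB : RingHom.ker (algebraMap R' B) ≤ nilradical R')
    (hins : ∀ y : Rt, ∃ (n : ℕ) (a : R),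
      y ^ ringExpChar (ResidueField Rt) ^ n - algebraMap R Rt a ∈ maximalIdeal Rt)
    (p : Ideal R') [p.IsPrime] (hp : (maximalIdeal R).map (algebraMap R R') ≤ p) :
    CAlg2.IsGeomUnibranch (Localization.AtPrime p) ∧
      (Function.Injective (algebraMap R' B) → IsDomain (Localization.AtPrime p)) := by
  let M0 := Algebra.algebraMapSubmonoid B p.primeCompl
  let W := Localization M0
  letI : Algebra (Localization.AtPrime p) W := localizationAlgebra p.primeCompl B
  have hmap : ∀ x, algebraMap (Localization.AtPrime p) W (algebraMap R' _ x) =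
      algebraMap B W (algebraMap R' _ x) := fun x => IsLocalization.map_eq _ x
  haveI hWint : Algebra.IsIntegral (Localization.AtPrime p) W :=
    algebraMap_isIntegral_iff.1 (isIntegral_localization (R := R') (S := B) (M := p.primeCompl)
      (Rₘ := Localization.AtPrime p) (Sₘ := W))
  have hWker : RingHom.ker (algebraMap (Localization.AtPrime p) W) ≤ nilradical _ := fun x hx => by
    obtain ⟨⟨r, ⟨s, hs⟩⟩, hrs⟩ := IsLocalization.surj p.primeCompl x
    simp only at hrs
    have h1 : algebraMap B W (algebraMap R' B r) = 0 := by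
      rw [← hmap, ← hrs, map_mul, show algebraMap (Localization.AtPrime p) W x = 0 from hx, zero_mul]
    obtain ⟨⟨_, t, ht, rfl⟩, ht'⟩ := (IsLocalization.map_eq_zero_iff M0 W _).1 h1
    have h2 : t * r ∈ nilradical R' := hkerB (by rw [RingHom.mem_ker, map_mul]; exact ht')
    have h3 : IsNilpotent (algebraMap R' (Localization.AtPrime p) (t * r)) := (mem_nilradical.1 h2).map _
    obtain ⟨n, hn⟩ := h3
    rw [map_mul, mul_pow, ((IsLocalization.map_units (Localization.AtPrime p) (⟨t, ht⟩ : p.primeCompl)).pow n).mul_right_eq_zero,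
      ← hrs, mul_pow, ((IsLocalization.map_units (Localization.AtPrime p) (⟨s, hs⟩ : p.primeCompl)).pow n).mul_left_eq_zero] at hn
    exact mem_nilradical.2 ⟨n, hn⟩
  haveI : Nontrivial W := by
    by_contra hnt
    haveI := not_nontrivial_iff_subsingleton.1 hnt
    exact not_isNilpotent_one (mem_nilradical.1 (hWker (x := 1) (Subsingleton.elim _ _)))
  let iL : Rt →+* W := (algebraMap B W).comp iB
  let iR : Localization.AtPrime p →+* W := algebraMap (Localization.AtPrime p) W
  have hRR : ∀ a : R, iL (algebraMap R Rt a) = iR (algebraMap R' _ (algebraMap R R' a)) := fun a => by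
    show algebraMap B W _ = algebraMap (Localization.AtPrime p) W _
    rw [hmap]
    congr 1
    exact hcomp a
  have hcL : ∀ (M : Ideal W) [M.IsMaximal], M.comap iR = maximalIdeal (Localization.AtPrime p) ∧
      M.comap iL = maximalIdeal Rt := fun M hM => by
    have h1 : M.comap iR = maximalIdeal (Localization.AtPrime p) :=
      IsLocalRing.eq_maximalIdeal (Ideal.isMaximal_comap_of_isIntegral_of_isMaximal M)
    refine ⟨h1, IsLocalRing.eq_maximalIdeal ?_⟩
    haveI : (M.comap iL).IsPrime := hM.isPrime.comap _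
    refine Ideal.isMaximal_of_isIntegral_of_isMaximal_comap (R := R) _ ?_
    have : (M.comap iL).comap (algebraMap R Rt) = maximalIdeal R := by
      refine ((IsLocalRing.maximalIdeal.isMaximal R).eq_of_le ((hM.isPrime.comap _).comap _).ne_top fun a ha => ?_).symm
      show iL (algebraMap R Rt a) ∈ M
      rw [hRR, ← Ideal.mem_comap, h1, ← Ideal.mem_comap]
      rw [show (maximalIdeal (Localization.AtPrime p)).comap (algebraMap R' _) = p from
        IsLocalization.AtPrime.comap_maximalIdeal (Localization.AtPrime p) p]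
      exact hp (Ideal.mem_map_of_mem _ ha)
    rw [this]; exact maximalIdeal.isMaximal R
  set q := ringExpChar (ResidueField Rt) with hq
  haveI : ExpChar (ResidueField Rt) q := ringExpChar.expChar _
  have gen : ∀ P : W → Prop, P 0 → (∀ y s, P (iL y * iR s)) → (∀ z w, P z → P w → P (z + w)) → ∀ z, P z := by
    intro P h0 hm hadd z
    obtain ⟨⟨b, ⟨_, s, hs, rfl⟩⟩, hbs⟩ := IsLocalization.surj M0 z
    obtain ⟨u, hu⟩ := IsLocalization.map_units (Localization.AtPrime p) (⟨s, hs⟩ : p.primeCompl)
    have hz : z = algebraMap B W b * iR ↑u⁻¹ := by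
      rw [← hbs]
      show z = z * algebraMap B W (algebraMap R' _ s) * iR ↑u⁻¹
      rw [← hmap s]
      show z = z * iR (algebraMap R' _ s) * iR ↑u⁻¹
      rw [mul_assoc, ← map_mul, ← (hu : (u : Localization.AtPrime p) = algebraMap R' _ s), Units.mul_inv, map_one, mul_one]
    rw [hz]
    clear hbs hz z
    refine genB (fun b => P (algebraMap B W b * iR ↑u⁻¹)) (by simpa using h0) (fun y x => ?_)
      (fun a c ha hc => by simpa [add_mul] using hadd _ _ ha hc) b
    have h2 : algebraMap B W (iB y * algebraMap R' B x) * iR ↑u⁻¹ = iL y * iR (algebraMap R' _ x * ↑u⁻¹) := by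
      rw [map_mul iR, ← mul_assoc, map_mul]
      congr 1
      show _ = algebraMap B W (iB y) * algebraMap (Localization.AtPrime p) W (algebraMap R' _ x)
      rw [hmap]
    show P _
    rw [h2]; exact hm _ _
  obtain ⟨M, hM⟩ := Ideal.exists_maximal W
  haveI := hM
  haveI hWloc : IsLocalRing W := IsLocalRing.of_unique_max_ideal ⟨M, hM, fun M' hM' => by
    haveI := hM'
    exact eq_of_insep iL iR gen (hcL M).2 (hcL M').2 (hcL M).1 (hcL M').1 fun y => by
      obtain ⟨n, a, ha⟩ := hins y
      refine ⟨n, algebraMap R' _ (algebraMap R R' a), fun N hN => ?_⟩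
      rw [← hRR, ← map_pow, ← map_sub iL]
      exact hN (Ideal.mem_map_of_mem _ ha)⟩
  obtain ⟨hD, hI⟩ := isDomain_and_isIntegrallyClosed_of_isLocalization (W := W) M0 hBn
  haveI := hD; haveI := hI
  have hWinj : Function.Injective (algebraMap R' B) → Function.Injective (algebraMap (Localization.AtPrime p) W) := fun hinjB => by
    haveI : IsLocalization (p.primeCompl.map (algebraMap R' B)) W := Localization.isLocalization
    exact IsLocalization.map_injective_of_injective (M := p.primeCompl) (S := Localization.AtPrime p) (Q := W) hinjB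
  refine ⟨isGeomUnibranch_of_integral' hWker fun w => ?_, fun hi => (hWinj hi).isDomain _⟩
  haveI : Nontrivial (W ⧸ maximalIdeal W) := Ideal.Quotient.nontrivial_iff.2 (maximalIdeal.isMaximal W).ne_top
  obtain ⟨N, s, hs⟩ := exists_pow_of_insep iL iR gen (maximalIdeal W)
    (Ideal.map_le_iff_le_comap.2 (hcL (maximalIdeal W)).2.ge) (fun y => by
      obtain ⟨n, a, ha⟩ := hins y
      refine ⟨n, algebraMap R' _ (algebraMap R R' a), ?_⟩
      rw [← hRR, ← map_pow, ← map_sub iL]
      rw [← Ideal.mem_comap, (hcL (maximalIdeal W)).2]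
      exact ha) w
  haveI : IsLocalHom iL := ((IsLocalRing.local_hom_TFAE iL).out 0 4).2 (hcL (maximalIdeal W)).2
  haveI : ExpChar (ResidueField W) q :=
    expChar_of_injective_ringHom (f := ResidueField.map iL) (RingHom.injective _) q
  refine ⟨N, s, ?_⟩
  rw [ringExpChar.eq (ResidueField W) q]
  exact hs

theorem isLocalHom_normRed (A : Type u) [CommRing A] [IsLocalRing A] [IsLocalRing (CAlg2.normRed A)] :
    IsLocalHom (algebraMap A (CAlg2.normRed A)) :=
  isLocalHom_algebraMap_normRed (A := A)

/-- Base change of a geometrically unibranch local ring along a flat algebra with normal normalised fibre product. -/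
theorem isGeomUnibranch_tensor (A A' B : Type u) [CommRing A] [CommRing A'] [Algebra A A'] [Module.Flat A A']
    [CommRing B] [IsLocalRing B] [Algebra A B] (hB : CAlg2.IsGeomUnibranch B)
    (hN : EGA4.IsNormalRing (CAlg2.normRed B ⊗[A] A'))
    (q : Ideal (B ⊗[A] A')) [q.IsPrime] (hq : q.comap (algebraMap B (B ⊗[A] A')) = maximalIdeal B) :
    CAlg2.IsGeomUnibranch (Localization.AtPrime q) ∧ (IsDomain B → IsDomain (Localization.AtPrime q)) := by
  obtain ⟨⟨hred, hloc⟩, hins⟩ := hB
  haveI := hred; haveI := hloc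
  haveI := isLocalHom_normRed B
  let f : B →ₐ[A] CAlg2.normRed B := IsScalarTower.toAlgHom A B (CAlg2.normRed B)
  let g : B ⊗[A] A' →+* CAlg2.normRed B ⊗[A] A' := (Algebra.TensorProduct.map f (AlgHom.id A A')).toRingHom
  let iB : CAlg2.normRed B →+* CAlg2.normRed B ⊗[A] A' := Algebra.TensorProduct.includeLeftRingHom
  letI : Algebra (B ⊗[A] A') (CAlg2.normRed B ⊗[A] A') := g.toAlgebra
  have hcomp : ∀ b : B, iB (algebraMap B (CAlg2.normRed B) b) =
      algebraMap (B ⊗[A] A') (CAlg2.normRed B ⊗[A] A') (algebraMap B (B ⊗[A] A') b) := fun b => by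
    show _ ⊗ₜ[A] (1 : A') = g (b ⊗ₜ[A] (1 : A'))
    simp [g, f]
  have genB : ∀ P : (CAlg2.normRed B ⊗[A] A') → Prop, P 0 →
      (∀ y x, P (iB y * algebraMap (B ⊗[A] A') (CAlg2.normRed B ⊗[A] A') x)) →
      (∀ z w, P z → P w → P (z + w)) → ∀ z, P z := fun P h0 hm ha z => by
    induction z using TensorProduct.induction_on with
    | zero => exact h0
    | add z w hz hw => exact ha z w hz hw
    | tmul y x =>
      have h1 : y ⊗ₜ[A] x = iB y * g ((1 : B) ⊗ₜ[A] x) := by
        show y ⊗ₜ[A] x = (y ⊗ₜ[A] (1 : A')) * g _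
        simp [g, f]
      exact h1 ▸ hm y ((1 : B) ⊗ₜ[A] x)
  have hnil : ∀ z, g z = 0 → z ∈ nilradical (B ⊗[A] A') := fun z hz => by
    have hex : Function.Exact (Submodule.subtype (LinearMap.ker f.toLinearMap)) f.toLinearMap :=
      LinearMap.exact_subtype_ker_map _
    obtain ⟨w, rfl⟩ := (Module.Flat.rTensor_exact A' hex z).1 hz
    clear hz
    induction w using TensorProduct.induction_on with
    | zero => rw [map_zero]; exact zero_mem _
    | add a b ha hb => rw [map_add]; exact add_mem ha hb
    | tmul b x =>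
      have hb : IsNilpotent (b.1 : B) := by
        have h0 : algebraMap (CAlg2.red B) (CAlg2.normRed B) (Ideal.Quotient.mk _ b.1) = 0 := b.2
        have h2 : (Ideal.Quotient.mk (nilradical B) b.1) = 0 :=
          IsFractionRing.injective (CAlg2.red B) (FractionRing (CAlg2.red B))
            ((congrArg Subtype.val h0).trans (map_zero _).symm)
        exact mem_nilradical.1 (Ideal.Quotient.eq_zero_iff_mem.1 h2)
      rw [mem_nilradical]
      obtain ⟨n, hn⟩ := hb
      refine ⟨n, ?_⟩
      rw [LinearMap.rTensor_tmul, Algebra.TensorProduct.tmul_pow]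
      show ((b.1 : B) ^ n) ⊗ₜ[A] (x ^ n) = 0
      rw [hn, zero_tmul]
  haveI := isIntegral_of_gen (R := B) (Rt := CAlg2.normRed B) (R' := B ⊗[A] A')
    (B := CAlg2.normRed B ⊗[A] A') iB hcomp genB
  obtain ⟨h1, h2⟩ := isGeomUnibranch_of_normal_baseChange' B (CAlg2.normRed B) (B ⊗[A] A')
    (B := CAlg2.normRed B ⊗[A] A') iB hcomp genB hN (fun z hz => hnil z hz) ((insep_iff (A := B)).1 hins) q
    (Ideal.map_le_iff_le_comap.2 hq.ge)
  refine ⟨h1, fun hd => h2 ?_⟩
  haveI := hd
  have hf : Function.Injective f.toLinearMap := fun x y hxy => by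
    have h3 := IsFractionRing.injective (CAlg2.red B) (FractionRing (CAlg2.red B)) (congrArg Subtype.val hxy)
    have h4 : x - y ∈ nilradical B := Ideal.Quotient.eq.1 h3
    rw [nilradical_eq_zero] at h4
    exact sub_eq_zero.1 h4
  exact Module.Flat.rTensor_preserves_injective_linearMap (M := A') f.toLinearMap hf

end Groth.Agent.Branch

namespace Groth.Agent.Branch

theorem isNormalRing_normRed (B : Type u) [CommRing B] [IsDomain (CAlg2.red B)] :
    EGA4.IsNormalRing (CAlg2.normRed B) := by
  haveI : IsIntegrallyClosed (CAlg2.normRed B) :=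
    integralClosure.isIntegrallyClosedOfFiniteExtension (FractionRing (CAlg2.red B))
  exact fun q _ => ⟨inferInstance,
    isIntegrallyClosed_of_isLocalization (Localization.AtPrime q) q.primeCompl q.primeCompl_le_nonZeroDivisors⟩

end Groth.Agent.Branch
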