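import Groth.Agent.Branch.BaseChange
import Mathlib.RingTheory.RingHom.PurelyInseparable

/-!
# Geometrically unibranch rings along integral birational maps
-/

set_option autoImplicit false
set_option linter.style.haveILetI false
universe u

open IsLocalRing

namespace Groth.Agent.Branch

theorem isLocalHom_of_isIntegral {L W : Type u} [CommRing L] [IsLocalRing L] [CommRing W] [IsLocalRing W]
    (f : L →+* W) (hf : f.IsIntegral) : IsLocalHom f := by
  refine ⟨fun x hx => by_contra fun h => ?_⟩
  have h1 : (maximalIdeal W).comap f = maximalIdeal L :=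
    IsLocalRing.eq_maximalIdeal (Ideal.isMaximal_comap_of_isIntegral_of_isMaximal' f hf (maximalIdeal W))
  exact (h1.symm ▸ h : x ∈ (maximalIdeal W).comap f) hx

section

variable {R B A C : Type u} [CommRing R] [CommRing B] [CommRing A] [CommRing C] [Algebra R B]
  [Algebra.IsIntegral R B] [Algebra R A] [Algebra B C] (p : Ideal R) (q : Ideal B) [p.IsPrime] [q.IsPrime]
  [IsLocalization.AtPrime A p] [IsLocalization.AtPrime C q] (g : A →+* C)
  (hg : g.comp (algebraMap R A) = (algebraMap B C).comp (algebraMap R B))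

include hg in
/-- The local ring at the only prime over a prime is integral over the local ring below. -/
theorem isIntegral_of_unique_prime
    (huniq : ∀ P : Ideal B, P.IsPrime → P.comap (algebraMap R B) = p → P = q) : g.IsIntegral := by
  intro c
  obtain ⟨b, ⟨s, hs⟩, rfl⟩ := IsLocalization.exists_mk'_eq q.primeCompl c
  have h1 : ∃ t ∈ p.primeCompl, s ∣ algebraMap R B t := by
    by_contra hne
    push Not at hne
    let M := p.primeCompl.map (algebraMap R B).toMonoidHom
    have hd : Disjoint ((Ideal.span {s} : Ideal B) : Set B) (M : Set B) := by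
      rw [Set.disjoint_left]
      rintro _ hx ⟨t, ht, rfl⟩
      exact hne t ht (Ideal.mem_span_singleton.1 hx)
    obtain ⟨P, hP, hsP, hPM⟩ := Ideal.exists_le_prime_disjoint _ M hd
    have hPp : P.comap (algebraMap R B) ≤ p := fun r hr => by
      by_contra hrp
      exact Set.disjoint_left.1 hPM hr ⟨r, hrp, rfl⟩
    haveI := hP
    obtain ⟨P', hP', hP'', hP'p⟩ := Ideal.exists_ideal_over_prime_of_isIntegral p P hPp
    rw [huniq P' hP'' hP'p] at hP'
    exact hs (hP' (hsP (Ideal.mem_span_singleton_self s)))
  obtain ⟨t, ht, a, ha⟩ := h1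
  have h2 : g.IsIntegralElem (algebraMap B C (b * a)) := by
    obtain ⟨P, hP, hP'⟩ := Algebra.IsIntegral.isIntegral (R := R) (b * a)
    refine ⟨P.map (algebraMap R A), hP.map _, ?_⟩
    rw [Polynomial.eval₂_map, hg, ← Polynomial.hom_eval₂, hP', map_zero]
  have hu : IsUnit (algebraMap R A t) := IsLocalization.map_units A (⟨t, ht⟩ : p.primeCompl)
  have h3 : IsLocalization.mk' C b (⟨s, hs⟩ : q.primeCompl) = algebraMap B C (b * a) * g ↑hu.unit⁻¹ := by
    rw [IsLocalization.mk'_eq_iff_eq_mul]
    have h4 : algebraMap B C (s * a) * g ↑hu.unit⁻¹ = 1 := by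
      rw [← ha, ← RingHom.comp_apply, ← hg, RingHom.comp_apply, ← map_mul, IsUnit.mul_val_inv, map_one]
    calc algebraMap B C b = algebraMap B C b * (algebraMap B C (s * a) * g ↑hu.unit⁻¹) := by rw [h4, mul_one]
      _ = _ := by rw [map_mul, map_mul]; ring
  rw [h3]
  exact h2.mul _ (g.isIntegralElem_map)

variable [IsLocalRing A] [IsLocalRing C]

include hg in
/-- Geometric unibranchness descends along a radicial integral extension. -/
theorem isGeomUnibranch_of_unique_prime
    (huniq : ∀ P : Ideal B, P.IsPrime → P.comap (algebraMap R B) = p → P = q)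
    (hbir : ∀ P : Ideal R, P.IsPrime → P ≤ p → ∃ Q : Ideal B, Q.IsPrime ∧ Q ≤ q ∧ Q.comap (algebraMap R B) ≤ P)
    [IsLocalHom g] (hres : (ResidueField.map g).IsPurelyInseparable)
    (hC : CAlg2.IsGeomUnibranch C) : CAlg2.IsGeomUnibranch A := by
  obtain ⟨⟨hdom, hloc⟩, hins⟩ := hC
  haveI := hdom; haveI := hloc
  rw [insep_iff (A := C)] at hins
  haveI : IsIntegrallyClosed (CAlg2.normRed C) :=
    integralClosure.isIntegrallyClosedOfFiniteExtension (FractionRing (CAlg2.red C))
  let ι : C →+* CAlg2.normRed C := algebraMap C _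
  letI : Algebra A (CAlg2.normRed C) := (ι.comp g).toAlgebra
  have hι : ι.IsIntegral :=
    RingHom.IsIntegral.trans (Ideal.Quotient.mk (nilradical C)) (algebraMap (CAlg2.red C) (CAlg2.normRed C))
      (RingHom.isIntegral_of_surjective _ Ideal.Quotient.mk_surjective)
      (algebraMap_isIntegral_iff.2 inferInstance)
  haveI : Algebra.IsIntegral A (CAlg2.normRed C) :=
    algebraMap_isIntegral_iff.1 (RingHom.IsIntegral.trans g ι (isIntegral_of_unique_prime p q g hg huniq) hι)
  refine isGeomUnibranch_of_integral' (W := CAlg2.normRed C) (fun a ha => ?_) fun w => ?_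
  · have ha' : g a ∈ nilradical C := by
      have h1 : algebraMap (CAlg2.red C) (CAlg2.normRed C) (Ideal.Quotient.mk _ (g a)) = 0 := ha
      have h2 : algebraMap (CAlg2.red C) (FractionRing (CAlg2.red C)) (Ideal.Quotient.mk _ (g a)) = 0 :=
        congrArg Subtype.val h1
      exact Ideal.Quotient.eq_zero_iff_mem.1 ((IsFractionRing.injective _ _) (h2.trans (map_zero _).symm))
    obtain ⟨r, ⟨s, hs⟩, rfl⟩ := IsLocalization.exists_mk'_eq p.primeCompl a
    rw [nilradical_eq_sInf, Ideal.mem_sInf]
    intro P hP
    haveI : P.IsPrime := hP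
    have hPd := (IsLocalization.isPrime_iff_isPrime_disjoint p.primeCompl A P).1 hP
    obtain ⟨Q, hQ, hQq, hQP⟩ := hbir _ hPd.1 fun x hx => by
      by_contra hxp
      exact Set.disjoint_left.1 hPd.2 hxp hx
    have hQC : (Q.map (algebraMap B C)).comap (algebraMap B C) = Q :=
      IsLocalization.comap_map_of_isPrime_disjoint q.primeCompl C hQ
        (Set.disjoint_left.2 fun x hx hxQ => hx (hQq hxQ))
    haveI : (Q.map (algebraMap B C)).IsPrime :=
      IsLocalization.isPrime_of_isPrime_disjoint q.primeCompl C Q hQ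
        (Set.disjoint_left.2 fun x hx hxQ => hx (hQq hxQ))
    have h3 : g (IsLocalization.mk' A r (⟨s, hs⟩ : p.primeCompl)) ∈ Q.map (algebraMap B C) := by
      obtain ⟨n, hn⟩ := mem_nilradical.1 ha'
      exact Ideal.IsPrime.mem_of_pow_mem inferInstance n (hn ▸ Ideal.zero_mem _)
    have h4 : algebraMap R B r ∈ Q := by
      rw [← hQC, Ideal.mem_comap, ← RingHom.comp_apply, ← hg, RingHom.comp_apply,
        ← IsLocalization.mk'_spec A r (⟨s, hs⟩ : p.primeCompl), map_mul]
      exact Ideal.mul_mem_right _ _ h3
    rw [IsLocalization.mk'_eq_mul_mk'_one]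
    exact Ideal.mul_mem_right _ _ (hQP h4)
  · obtain ⟨n, c, hc⟩ := hins w
    haveI : IsLocalHom ι := isLocalHom_of_isIntegral ι hι
    haveI : ExpChar (ResidueField A) (ringExpChar (ResidueField A)) := ringExpChar.expChar _
    haveI : ExpChar (ResidueField (CAlg2.normRed C)) (ringExpChar (ResidueField A)) :=
      expChar_of_injective_ringHom (f := (ResidueField.map ι).comp (ResidueField.map g)) (RingHom.injective _) _
    letI := (ResidueField.map g).toAlgebra
    haveI : IsPurelyInseparable (ResidueField A) (ResidueField C) := hres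
    obtain ⟨m, α, hα⟩ := (isPurelyInseparable_iff_pow_mem (ResidueField A) (E := ResidueField C)
      (ringExpChar (ResidueField A))).1 inferInstance (residue C c)
    obtain ⟨a, rfl⟩ := residue_surjective α
    refine ⟨n + m, a, ?_⟩
    rw [← residue_eq_zero_iff, map_sub, sub_eq_zero, map_pow, ringExpChar.eq (ResidueField (CAlg2.normRed C))
      (ringExpChar (ResidueField A)), pow_add, pow_mul]
    rw [← residue_eq_zero_iff, map_sub, sub_eq_zero, map_pow, ringExpChar.eq (ResidueField (CAlg2.normRed C))
      (ringExpChar (ResidueField A))] at hc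
    rw [hc]
    show ResidueField.map ι (residue C c) ^ _ = ResidueField.map ι (ResidueField.map g (residue A a))
    rw [← map_pow, ← hα]
    rfl

end

section

variable {R B A : Type u} [CommRing R] [CommRing B] [CommRing A] [Algebra R B]
  [Algebra.IsIntegral R B] [Algebra R A] (p : Ideal R) [p.IsPrime]
  [IsLocalization.AtPrime A p] [IsLocalRing A] (hA : CAlg2.IsGeomUnibranch A) (φ : B →+* CAlg2.normRed A)
  (hφ : φ.comp (algebraMap R B) = (algebraMap A (CAlg2.normRed A)).comp (algebraMap R A))
  (hmin : ∀ P : Ideal B, P.IsPrime → P.comap (algebraMap R B) ≤ p → RingHom.ker φ ≤ P)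

theorem isIntegral_algebraMap_normRed : (algebraMap A (CAlg2.normRed A)).IsIntegral :=
  RingHom.IsIntegral.trans (Ideal.Quotient.mk (nilradical A)) (algebraMap (CAlg2.red A) (CAlg2.normRed A))
    (RingHom.isIntegral_of_surjective _ Ideal.Quotient.mk_surjective) (algebraMap_isIntegral_iff.2 inferInstance)

include hφ hmin in
/-- Over a geometrically unibranch point there is exactly one prime. -/
theorem eq_comap_maximalIdeal [IsLocalRing (CAlg2.normRed A)] [IsDomain (CAlg2.red A)] (q : Ideal B) [q.IsPrime]
    (hq : q.comap (algebraMap R B) = p) : q = (maximalIdeal (CAlg2.normRed A)).comap φ := by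
  let M := Algebra.algebraMapSubmonoid B p.primeCompl
  let Bp := Localization M
  have hu : ∀ t : M, IsUnit (φ t) := by
    rintro ⟨_, t, ht, rfl⟩
    show IsUnit (φ (algebraMap R B t))
    rw [← RingHom.comp_apply, hφ]
    exact (IsLocalization.map_units A (⟨t, ht⟩ : p.primeCompl)).map (algebraMap A (CAlg2.normRed A))
  let φp : Bp →+* CAlg2.normRed A := IsLocalization.lift hu
  let gp : A →+* Bp := IsLocalization.map Bp (algebraMap R B) (M := p.primeCompl) (T := M) fun t ht => ⟨t, ht, rfl⟩
  have hcomp : φp.comp gp = algebraMap A (CAlg2.normRed A) := by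
    refine IsLocalization.ringHom_ext p.primeCompl (RingHom.ext fun r => ?_)
    simp only [RingHom.comp_apply, φp, gp, IsLocalization.map_eq, IsLocalization.lift_eq]
    exact DFunLike.congr_fun hφ r
  letI := φp.toAlgebra
  haveI : Algebra.IsIntegral Bp (CAlg2.normRed A) :=
    algebraMap_isIntegral_iff.1 (RingHom.IsIntegral.tower_top gp φp (hcomp ▸ isIntegral_algebraMap_normRed))
  have hd : Disjoint (M : Set B) (q : Set B) := by
    rw [Set.disjoint_left]
    rintro _ ⟨t, ht, rfl⟩ h
    exact ht (hq ▸ h)
  haveI : (q.map (algebraMap B Bp)).IsPrime := IsLocalization.isPrime_of_isPrime_disjoint M Bp q inferInstance hd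
  have hqc : (q.map (algebraMap B Bp)).comap (algebraMap B Bp) = q :=
    IsLocalization.comap_map_of_isPrime_disjoint M Bp inferInstance hd
  have hker : (⊥ : Ideal (CAlg2.normRed A)).comap (algebraMap Bp (CAlg2.normRed A)) ≤ q.map (algebraMap B Bp) := by
    intro x hx
    obtain ⟨b, m, rfl⟩ := IsLocalization.exists_mk'_eq M x
    have h1 : φ b = 0 := by
      have h2 : φp (IsLocalization.mk' Bp b m) = 0 := hx
      have h3 := congrArg φp (IsLocalization.mk'_spec Bp b m)
      rw [map_mul, h2, zero_mul, IsLocalization.lift_eq] at h3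
      exact h3.symm
    rw [IsLocalization.mk'_eq_mul_mk'_one]
    exact Ideal.mul_mem_right _ _ (Ideal.mem_map_of_mem _ (hmin q inferInstance hq.le h1))
  obtain ⟨Q, -, hQ, hQc⟩ := Ideal.exists_ideal_over_prime_of_isIntegral (q.map (algebraMap B Bp))
    (⊥ : Ideal (CAlg2.normRed A)) hker
  have hle : q ≤ (maximalIdeal (CAlg2.normRed A)).comap φ := fun b hb => by
    have h1 : algebraMap B Bp b ∈ Q.comap (algebraMap Bp (CAlg2.normRed A)) := hQc.symm ▸ Ideal.mem_map_of_mem _ hb
    have h2 : φp (algebraMap B Bp b) ∈ Q := h1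
    rw [IsLocalization.lift_eq] at h2
    exact IsLocalRing.le_maximalIdeal hQ.ne_top h2
  refine le_antisymm hle fun b hb => by_contra fun hbq => ?_
  have hlt := Ideal.comap_lt_comap_of_integral_mem_sdiff hle ⟨hb, hbq⟩ (Algebra.IsIntegral.isIntegral (R := R) b)
  refine hlt.ne (hq.trans ?_)
  rw [Ideal.comap_comap, hφ, ← Ideal.comap_comap,
    IsLocalRing.eq_maximalIdeal (Ideal.isMaximal_comap_of_isIntegral_of_isMaximal' _ isIntegral_algebraMap_normRed
      (maximalIdeal (CAlg2.normRed A)))]
  exact (IsLocalization.AtPrime.comap_maximalIdeal A p).symm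

variable {C : Type u} [CommRing C] [Algebra B C] (q : Ideal B) [q.IsPrime] [IsLocalization.AtPrime C q]
  [IsLocalRing C] (g : A →+* C) (hg : g.comp (algebraMap R A) = (algebraMap B C).comp (algebraMap R B))

include hA hφ hmin hg in
/-- Geometric unibranchness passes to the point over it of an integral birational cover, which is radicial there. -/
theorem isGeomUnibranch_over (hq : q.comap (algebraMap R B) = p) [IsLocalHom g] :
    CAlg2.IsGeomUnibranch C ∧ (ResidueField.map g).IsPurelyInseparable := by
  obtain ⟨⟨hdom, hloc⟩, hins⟩ := hA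
  haveI := hdom; haveI := hloc
  rw [insep_iff (A := A)] at hins
  haveI : IsIntegrallyClosed (CAlg2.normRed A) :=
    integralClosure.isIntegrallyClosedOfFiniteExtension (FractionRing (CAlg2.red A))
  have hqm := eq_comap_maximalIdeal p φ hφ hmin q hq
  have hu : ∀ s : q.primeCompl, IsUnit (φ s) := fun ⟨s, hs⟩ =>
    IsLocalRing.notMem_maximalIdeal.1 fun h => hs (by rw [hqm]; exact h)
  let ψ : C →+* CAlg2.normRed A := IsLocalization.lift hu
  have hcomp : ψ.comp g = algebraMap A (CAlg2.normRed A) := by
    refine IsLocalization.ringHom_ext p.primeCompl (RingHom.ext fun r => ?_)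
    rw [RingHom.comp_assoc, hg, ← RingHom.comp_assoc, RingHom.comp_apply, RingHom.comp_apply,
      IsLocalization.lift_eq]
    exact DFunLike.congr_fun hφ r
  have hψ : ψ.IsIntegral := RingHom.IsIntegral.tower_top g ψ (hcomp ▸ isIntegral_algebraMap_normRed)
  letI := ψ.toAlgebra
  haveI : Algebra.IsIntegral C (CAlg2.normRed A) := algebraMap_isIntegral_iff.1 hψ
  haveI : IsLocalHom ψ := isLocalHom_of_isIntegral ψ hψ
  haveI : ExpChar (ResidueField A) (ringExpChar (ResidueField A)) := ringExpChar.expChar _
  haveI : ExpChar (ResidueField (CAlg2.normRed A)) (ringExpChar (ResidueField A)) :=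
    expChar_of_injective_ringHom (f := (ResidueField.map ψ).comp (ResidueField.map g)) (RingHom.injective _) _
  rw [ringExpChar.eq (ResidueField (CAlg2.normRed A)) (ringExpChar (ResidueField A))] at hins
  refine ⟨isGeomUnibranch_of_integral' (W := CAlg2.normRed A) (fun x hx => ?_) fun w => ?_, ?_⟩
  · obtain ⟨b, s, rfl⟩ := IsLocalization.exists_mk'_eq q.primeCompl x
    have h1 : φ b = 0 := by
      have h2 : ψ (IsLocalization.mk' C b s) = 0 := hx
      have h3 := congrArg ψ (IsLocalization.mk'_spec C b s)
      rw [map_mul, h2, zero_mul, IsLocalization.lift_eq] at h3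
      exact h3.symm
    rw [nilradical_eq_sInf, Ideal.mem_sInf]
    intro P hP
    haveI : P.IsPrime := hP
    have hPd := (IsLocalization.isPrime_iff_isPrime_disjoint q.primeCompl C P).1 hP
    have hPq : P.comap (algebraMap B C) ≤ q := fun y hy => by
      by_contra hyq
      exact Set.disjoint_left.1 hPd.2 hyq hy
    rw [IsLocalization.mk'_eq_mul_mk'_one]
    exact Ideal.mul_mem_right _ _ (hmin _ hPd.1 ((Ideal.comap_mono hPq).trans hq.le) h1)
  · obtain ⟨n, a, ha⟩ := hins w
    rw [ringExpChar.eq (ResidueField (CAlg2.normRed A)) (ringExpChar (ResidueField A))]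
    refine ⟨n, g a, ?_⟩
    rw [show algebraMap C (CAlg2.normRed A) (g a) = algebraMap A (CAlg2.normRed A) a from DFunLike.congr_fun hcomp a]
    exact ha
  · letI := (ResidueField.map g).toAlgebra
    refine (isPurelyInseparable_iff_pow_mem (ResidueField A) (E := ResidueField C)
      (ringExpChar (ResidueField A))).2 fun x => ?_
    obtain ⟨c, rfl⟩ := residue_surjective x
    obtain ⟨n, a, ha⟩ := hins (ψ c)
    refine ⟨n, residue A a, (ResidueField.map ψ).injective ?_⟩
    show ResidueField.map ψ (ResidueField.map g (residue A a)) = ResidueField.map ψ (residue C c ^ _)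
    rw [← residue_eq_zero_iff, map_sub, sub_eq_zero, map_pow] at ha
    rw [map_pow]
    exact ((congrArg (residue _) (DFunLike.congr_fun hcomp a)).trans ha.symm : _)

end

end Groth.Agent.Branch
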