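import Groth.Agent.Branch.Birational
import Groth.Prelude.Def_EGA4Misc

/-!
# Geometrically unibranch points and integral birational morphisms
-/

set_option autoImplicit false
set_option linter.style.haveILetI false
universe u

open CategoryTheory AlgebraicGeometry IsLocalRing

namespace Groth.Agent.Branch

theorem exists_genericPoint_specializes {X : Scheme.{u}} (w : X) : ∃ ζ ∈ genericPoints X, ζ ⤳ w := by
  have hζ := (isIrreducible_irreducibleComponent (x := w)).isGenericPoint_genericPoint isClosed_irreducibleComponent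
  refine ⟨(isIrreducible_irreducibleComponent (x := w)).genericPoint, ?_, hζ.specializes mem_irreducibleComponent⟩
  show closure {_} ∈ irreducibleComponents X
  rw [hζ.def]
  exact irreducibleComponent_mem_irreducibleComponents w

theorem eq_of_specializes_genericPoint {X : Scheme.{u}} {ζ z : X} (hζ : ζ ∈ genericPoints X) (h : z ⤳ ζ) :
    z = ζ := by
  refine (h.antisymm ?_).eq
  have h1 := hζ.2 isIrreducible_singleton.closure (specializes_iff_closure_subset.1 h)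
  exact specializes_iff_closure_subset.2 h1

section

variable {X : Scheme.{u}} {U : X.Opens} (hU : IsAffineOpen U)

theorem specializes_fromSpec_iff (P Q : PrimeSpectrum Γ(X, U)) :
    hU.fromSpec P ⤳ hU.fromSpec Q ↔ P.asIdeal ≤ Q.asIdeal :=
  (hU.fromSpec.isEmbedding.isInducing.specializes_iff).trans (PrimeSpectrum.le_iff_specializes P Q).symm

theorem primeIdealOf_fromSpec (P : PrimeSpectrum Γ(X, U)) (h : hU.fromSpec P ∈ U) :
    hU.primeIdealOf ⟨hU.fromSpec P, h⟩ = P :=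
  hU.fromSpec.isEmbedding.injective (hU.fromSpec_primeIdealOf _)

theorem fromSpec_mem (P : PrimeSpectrum Γ(X, U)) : hU.fromSpec P ∈ U :=
  (hU.range_fromSpec ▸ Set.mem_range_self _ : hU.fromSpec P ∈ (U : Set X))

end

section

variable {X Y : Scheme.{u}} (f : X ⟶ Y) [IsIntegralHom f] {V : Y.Opens} (hV : IsAffineOpen V)

theorem apply_fromSpec_preimage (P : PrimeSpectrum Γ(X, f ⁻¹ᵁ V)) :
    f ((hV.preimage f).fromSpec P) = hV.fromSpec (PrimeSpectrum.comap (f.app V).hom P) := by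
  have h := IsAffineOpen.SpecMap_appLE_fromSpec f hV (hV.preimage f) le_rfl
  rw [Scheme.Hom.appLE_eq_app] at h
  exact (congrArg (fun m => m P) h).symm

theorem comap_primeIdealOf_preimage (x : X) (hx : f x ∈ V) :
    ((hV.preimage f).primeIdealOf ⟨x, hx⟩).asIdeal.comap (f.app V).hom = (hV.primeIdealOf ⟨f x, hx⟩).asIdeal := by
  refine congrArg PrimeSpectrum.asIdeal (hV.fromSpec.isEmbedding.injective
    (a₁ := PrimeSpectrum.comap (f.app V).hom ((hV.preimage f).primeIdealOf ⟨x, hx⟩)) ?_)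
  rw [← apply_fromSpec_preimage f hV, IsAffineOpen.fromSpec_primeIdealOf]
  exact (hV.fromSpec_primeIdealOf ⟨f x, hx⟩).symm

theorem exists_over_specializes (hf : RadPt.IsBirational f) {y w : Y} (hw : w ⤳ y) :
    ∃ ξ x : X, f x = y ∧ ξ ⤳ x ∧ f ξ ⤳ w := by
  obtain ⟨η, hη, hηw⟩ := exists_genericPoint_specializes w
  obtain ⟨ξ, -, rfl⟩ := hf.1.surjOn hη
  have h1 : IsClosed (f '' closure {ξ}) := f.isClosedMap _ isClosed_closure
  obtain ⟨x, hx, hxy⟩ := (hηw.trans hw).mem_closed h1 ⟨ξ, subset_closure rfl, rfl⟩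
  exact ⟨ξ, x, hxy, specializes_iff_mem_closure.2 hx, hηw⟩

theorem isGeomUnibranch_apply_of_radicial (hf : RadPt.IsBirational f) (x : X)
    (huniq : ∀ x', f x' = f x → x' = x) (hres : (f.residueFieldMap x).hom.IsPurelyInseparable)
    (hX : CAlg2.IsGeomUnibranch (X.presheaf.stalk x)) : CAlg2.IsGeomUnibranch (Y.presheaf.stalk (f x)) := by
  obtain ⟨_, ⟨V, hV, rfl⟩, hxV, -⟩ :=
    Y.isBasis_affineOpens.exists_subset_of_mem_open (Set.mem_univ (f x)) isOpen_univ
  have hU := hV.preimage f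
  letI := (f.app V).hom.toAlgebra
  haveI : Algebra.IsIntegral Γ(Y, V) Γ(X, f ⁻¹ᵁ V) := algebraMap_isIntegral_iff.1 (f.isIntegral_app V hV)
  letI := TopCat.Presheaf.algebra_section_stalk Y.presheaf (⟨f x, hxV⟩ : ↥V)
  letI := TopCat.Presheaf.algebra_section_stalk X.presheaf (⟨x, hxV⟩ : ↥(f ⁻¹ᵁ V))
  haveI := hV.isLocalization_stalk ⟨f x, hxV⟩
  haveI := hU.isLocalization_stalk ⟨x, hxV⟩
  have hy : hV.fromSpec (hV.primeIdealOf ⟨f x, hxV⟩) = f x := hV.fromSpec_primeIdealOf ⟨f x, hxV⟩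
  refine isGeomUnibranch_of_unique_prime (hV.primeIdealOf ⟨f x, hxV⟩).asIdeal (hU.primeIdealOf ⟨x, hxV⟩).asIdeal
    (f.stalkMap x).hom ?_ ?_ ?_ hres hX
  · exact RingHom.ext fun r => Scheme.Hom.germ_stalkMap_apply f V x hxV r
  · intro P hP hPp
    have h1 : f (hU.fromSpec ⟨P, hP⟩) = f x := by
      rw [apply_fromSpec_preimage f hV,
        show PrimeSpectrum.comap (f.app V).hom ⟨P, hP⟩ = hV.primeIdealOf ⟨f x, hxV⟩ from PrimeSpectrum.ext hPp, hy]
    have h2 := huniq _ h1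
    have h3 : (⟨P, hP⟩ : PrimeSpectrum _) = hU.primeIdealOf ⟨x, hxV⟩ :=
      hU.fromSpec.isEmbedding.injective (h2.trans (hU.fromSpec_primeIdealOf ⟨x, hxV⟩).symm)
    exact congrArg PrimeSpectrum.asIdeal h3
  · intro P hP hPp
    have hw : hV.fromSpec ⟨P, hP⟩ ⤳ f x := by
      rw [← hy, specializes_fromSpec_iff]
      exact hPp
    obtain ⟨ξ, x', hx', hξ, hξw⟩ := exists_over_specializes f hf hw
    rw [huniq x' hx'] at hξ
    have hξU : ξ ∈ f ⁻¹ᵁ V := hξ.mem_open (f ⁻¹ᵁ V).isOpen hxV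
    refine ⟨(hU.primeIdealOf ⟨ξ, hξU⟩).asIdeal, inferInstance, ?_, ?_⟩
    · rw [← specializes_fromSpec_iff hU, hU.fromSpec_primeIdealOf, hU.fromSpec_primeIdealOf]
      exact hξ
    · refine (comap_primeIdealOf_preimage f hV ξ hξU).trans_le ?_
      refine (specializes_fromSpec_iff hV _ ⟨P, hP⟩).1 ?_
      rw [hV.fromSpec_primeIdealOf]
      exact hξw

theorem isGeomUnibranch_of_apply (hf : RadPt.IsBirational f) (x : X)
    (hY : CAlg2.IsGeomUnibranch (Y.presheaf.stalk (f x))) :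
    CAlg2.IsGeomUnibranch (X.presheaf.stalk x) ∧ (f.residueFieldMap x).hom.IsPurelyInseparable ∧
      ∀ x', f x' = f x → x' = x := by
  obtain ⟨_, ⟨V, hV, rfl⟩, hxV, -⟩ :=
    Y.isBasis_affineOpens.exists_subset_of_mem_open (Set.mem_univ (f x)) isOpen_univ
  have hU := hV.preimage f
  letI := (f.app V).hom.toAlgebra
  haveI : Algebra.IsIntegral Γ(Y, V) Γ(X, f ⁻¹ᵁ V) := algebraMap_isIntegral_iff.1 (f.isIntegral_app V hV)
  letI := TopCat.Presheaf.algebra_section_stalk Y.presheaf (⟨f x, hxV⟩ : ↥V)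
  letI := TopCat.Presheaf.algebra_section_stalk X.presheaf (⟨x, hxV⟩ : ↥(f ⁻¹ᵁ V))
  haveI := hV.isLocalization_stalk ⟨f x, hxV⟩
  haveI := hU.isLocalization_stalk ⟨x, hxV⟩
  let A := Y.presheaf.stalk (f x)
  let p := (hV.primeIdealOf ⟨f x, hxV⟩).asIdeal
  haveI hdom : IsDomain (CAlg2.red A) := hY.1.1
  haveI hloc : IsLocalRing (CAlg2.normRed A) := hY.1.2
  let θ0 : Γ(Y, V) →+* CAlg2.red A := (Ideal.Quotient.mk _).comp (algebraMap Γ(Y, V) A)
  let L := FractionRing (CAlg2.red A)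
  let θ : Γ(Y, V) →+* L := (algebraMap (CAlg2.red A) L).comp θ0
  haveI hP0 : (RingHom.ker θ).IsPrime := RingHom.ker_isPrime _
  have hy : hV.fromSpec (hV.primeIdealOf ⟨f x, hxV⟩) = f x := hV.fromSpec_primeIdealOf ⟨f x, hxV⟩
  have hle : ∀ P : Ideal Γ(Y, V), P.IsPrime → P ≤ p → RingHom.ker θ ≤ P := by
    intro P hP hPp r hr
    have h1 : θ0 r = 0 := IsFractionRing.injective (CAlg2.red A) L ((RingHom.mem_ker).1 hr |>.trans (map_zero _).symm)
    have h2 : algebraMap Γ(Y, V) A r ∈ nilradical A := Ideal.Quotient.eq_zero_iff_mem.1 h1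
    have hd : Disjoint (p.primeCompl : Set Γ(Y, V)) (P : Set Γ(Y, V)) :=
      Set.disjoint_left.2 fun z hz hzP => hz (hPp hzP)
    haveI := IsLocalization.isPrime_of_isPrime_disjoint p.primeCompl A P hP hd
    rw [← IsLocalization.comap_map_of_isPrime_disjoint p.primeCompl A hP hd, Ideal.mem_comap]
    rw [nilradical_eq_sInf, Ideal.mem_sInf] at h2
    exact h2 (by exact this)
  have hkerp : RingHom.ker θ ≤ p := hle p inferInstance le_rfl
  -- the generic point below `f x`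
  let η : Y := hV.fromSpec ⟨RingHom.ker θ, hP0⟩
  have hgen : ∀ ζ ∈ genericPoints Y, ζ ⤳ f x → ζ = η := by
    intro ζ hζ hζy
    have hζV : ζ ∈ V := hζy.mem_open V.isOpen hxV
    refine (eq_of_specializes_genericPoint hζ ?_).symm
    rw [show ζ = hV.fromSpec (hV.primeIdealOf ⟨ζ, hζV⟩) from (hV.fromSpec_primeIdealOf ⟨ζ, hζV⟩).symm,
      specializes_fromSpec_iff]
    refine hle _ inferInstance ?_
    rw [← specializes_fromSpec_iff hV, hV.fromSpec_primeIdealOf, hy]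
    exact hζy
  have hηy : η ⤳ f x := by
    rw [← hy, specializes_fromSpec_iff]
    exact hkerp
  obtain ⟨η', hη', hη'η⟩ := exists_genericPoint_specializes η
  rw [hgen η' hη' (hη'η.trans hηy)] at hη'
  obtain ⟨ξ, -, hξ⟩ := hf.1.surjOn hη'
  have hξV : f ξ ∈ V := hξ ▸ fromSpec_mem hV _
  letI := TopCat.Presheaf.algebra_section_stalk Y.presheaf (⟨f ξ, hξV⟩ : ↥V)
  haveI := hV.isLocalization_stalk ⟨f ξ, hξV⟩
  letI := TopCat.Presheaf.algebra_section_stalk X.presheaf (⟨ξ, hξV⟩ : ↥(f ⁻¹ᵁ V))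
  haveI := hU.isLocalization_stalk ⟨ξ, hξV⟩
  have hpξ : (hV.primeIdealOf ⟨f ξ, hξV⟩).asIdeal = RingHom.ker θ :=
    congrArg PrimeSpectrum.asIdeal (hV.fromSpec.isEmbedding.injective
      (a₂ := (⟨RingHom.ker θ, hP0⟩ : PrimeSpectrum _)) ((hV.fromSpec_primeIdealOf ⟨f ξ, hξV⟩).trans hξ))
  have hu : ∀ s : (hV.primeIdealOf ⟨f ξ, hξV⟩).asIdeal.primeCompl, IsUnit (θ s) := fun ⟨s, hs⟩ =>
    isUnit_iff_ne_zero.2 fun h => hs (hpξ ▸ h)
  let θ1 : Y.presheaf.stalk (f ξ) →+* L := IsLocalization.lift hu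
  haveI : IsLocalHom θ1 := ⟨fun z hz => by
    obtain ⟨r, s, rfl⟩ := IsLocalization.exists_mk'_eq (hV.primeIdealOf ⟨f ξ, hξV⟩).asIdeal.primeCompl z
    rw [IsLocalization.AtPrime.isUnit_mk'_iff (S := Y.presheaf.stalk (f ξ)) (hV.primeIdealOf ⟨f ξ, hξV⟩).asIdeal]
    intro hr
    rw [hpξ] at hr
    have h3 := congrArg θ1 (IsLocalization.mk'_spec (Y.presheaf.stalk (f ξ)) r s)
    rw [map_mul, IsLocalization.lift_eq, IsLocalization.lift_eq, (RingHom.mem_ker).1 hr, mul_eq_zero] at h3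
    exact h3.elim hz.ne_zero (hu s).ne_zero⟩
  let e := RingEquiv.ofBijective (f.residueFieldMap ξ).hom ((hf.2 (f ξ) (hξ.symm ▸ hη')).2 ξ rfl)
  let φ0 : Γ(X, f ⁻¹ᵁ V) →+* L :=
    (ResidueField.lift θ1).comp (e.symm.toRingHom.comp
      ((residue (X.presheaf.stalk ξ)).comp (algebraMap Γ(X, f ⁻¹ᵁ V) (X.presheaf.stalk ξ))))
  have hφ0 : φ0.comp (f.app V).hom = θ := by
    refine RingHom.ext fun r => ?_
    have h1 : residue (X.presheaf.stalk ξ) (algebraMap Γ(X, f ⁻¹ᵁ V) (X.presheaf.stalk ξ) ((f.app V).hom r)) =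
        e (residue (Y.presheaf.stalk (f ξ)) (algebraMap Γ(Y, V) (Y.presheaf.stalk (f ξ)) r)) := by
      refine Eq.trans ?_ (ConcreteCategory.congr_hom (Scheme.residue_residueFieldMap f ξ)
        (algebraMap Γ(Y, V) (Y.presheaf.stalk (f ξ)) r)).symm
      exact congrArg (residue (X.presheaf.stalk ξ)) (Scheme.Hom.germ_stalkMap_apply f V ξ hξV r).symm
    show ResidueField.lift θ1 (e.symm (residue _ (algebraMap _ _ ((f.app V).hom r)))) = θ r
    rw [h1, RingEquiv.symm_apply_apply, ResidueField.lift_residue_apply, IsLocalization.lift_eq]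
  have hint : ∀ b, φ0 b ∈ integralClosure (CAlg2.red A) L := fun b => by
    obtain ⟨P, hP, hP'⟩ := Algebra.IsIntegral.isIntegral (R := Γ(Y, V)) b
    refine ⟨P.map θ0, hP.map _, ?_⟩
    rw [Polynomial.eval₂_map, show (algebraMap (CAlg2.red A) L).comp θ0 = φ0.comp (f.app V).hom from hφ0.symm,
      ← Polynomial.hom_eval₂, show Polynomial.eval₂ (f.app V).hom b P = 0 from hP', map_zero]
  let φ : Γ(X, f ⁻¹ᵁ V) →+* CAlg2.normRed A := φ0.codRestrict (integralClosure (CAlg2.red A) L) hint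
  have hφ : φ.comp (algebraMap Γ(Y, V) Γ(X, f ⁻¹ᵁ V)) =
      (algebraMap A (CAlg2.normRed A)).comp (algebraMap Γ(Y, V) A) :=
    RingHom.ext fun r => Subtype.ext (DFunLike.congr_fun hφ0 r)
  have hkerφ : ∀ b ∈ RingHom.ker φ, b ∈ (hU.primeIdealOf ⟨ξ, hξV⟩).asIdeal := fun b hb => by
    have h1 : φ0 b = 0 := congrArg Subtype.val ((RingHom.mem_ker).1 hb)
    have h2 := (ResidueField.lift θ1).injective (h1.trans (map_zero _).symm)
    have h3 := e.symm.injective (h2.trans (map_zero _).symm)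
    exact (IsLocalization.AtPrime.to_map_mem_maximal_iff (X.presheaf.stalk ξ) _ b).1 ((residue_eq_zero_iff _).1 h3)
  have hmin : ∀ P : Ideal Γ(X, f ⁻¹ᵁ V), P.IsPrime → P.comap (algebraMap Γ(Y, V) Γ(X, f ⁻¹ᵁ V)) ≤ p →
      RingHom.ker φ ≤ P := by
    intro P hP hPp b hb
    obtain ⟨ξ', hξ', hξ'z⟩ := exists_genericPoint_specializes (hU.fromSpec ⟨P, hP⟩)
    have h1 : f (hU.fromSpec ⟨P, hP⟩) ⤳ f x := by
      rw [apply_fromSpec_preimage f hV, ← hy, specializes_fromSpec_iff]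
      exact hPp
    have h2 : f ξ' = f ξ := (hgen _ (hf.1.mapsTo hξ') ((hξ'z.map f.continuous).trans h1)).trans hξ.symm
    have h3 : ξ' = ξ := (hf.2 (f ξ) (hξ.symm ▸ hη')).1 ξ' ξ h2 rfl
    rw [h3] at hξ'z
    have h4 : (hU.primeIdealOf ⟨ξ, hξV⟩).asIdeal ≤ P := by
      refine (specializes_fromSpec_iff hU _ ⟨P, hP⟩).1 ?_
      rw [hU.fromSpec_primeIdealOf]
      exact hξ'z
    exact h4 (hkerφ b hb)
  have h := isGeomUnibranch_over p hY φ hφ hmin (hU.primeIdealOf ⟨x, hxV⟩).asIdeal (f.stalkMap x).hom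
    (RingHom.ext fun r => Scheme.Hom.germ_stalkMap_apply f V x hxV r) (comap_primeIdealOf_preimage f hV x hxV)
  refine ⟨h.1, h.2, fun x' hx' => ?_⟩
  have hx'V : f x' ∈ V := hx'.symm ▸ hxV
  have h5 := eq_comap_maximalIdeal p φ hφ hmin (hU.primeIdealOf ⟨x', hx'V⟩).asIdeal
    ((comap_primeIdealOf_preimage f hV x' hx'V).trans (by simp only [hx', p]))
  have h6 := eq_comap_maximalIdeal p φ hφ hmin (hU.primeIdealOf ⟨x, hxV⟩).asIdeal
    (comap_primeIdealOf_preimage f hV x hxV)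
  have h7 := congrArg (fun z => hU.fromSpec z) (PrimeSpectrum.ext (h5.trans h6.symm))
  simpa only [hU.fromSpec_primeIdealOf] using h7

end

end Groth.Agent.Branch
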