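import Groth.Agent.NormSH.Main
import Groth.Agent.Hensel.TrivialFibresAtPrime
import Groth.Prelude.Def_CAlgX

/-!
# Branches: minimal primes of henselizations versus maximal ideals of `A' ⊗_A S`
-/

set_option autoImplicit false
universe u

open TensorProduct IsLocalRing

namespace Groth.Agent.Branch

variable {A : Type u} [CommRing A] {S : Type u} [CommRing S] [Algebra A S]

theorem mem_iff_of_sub_mem {R : Type*} [CommRing R] (N : Ideal R) {x y : R} (h : x - y ∈ N) :
    x ∈ N ↔ y ∈ N :=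
  ⟨fun hx => sub_sub_cancel x y ▸ N.sub_mem hx h, fun hy => sub_add_cancel x y ▸ N.add_mem h hy⟩

theorem isIntegral_includeRight : RingHom.IsIntegral (R := S) (A := CAlg2.normRed A ⊗[A] S)
    (Algebra.TensorProduct.includeRight.toRingHom : S →+* CAlg2.normRed A ⊗[A] S) := by
  have : Algebra.IsIntegral A (CAlg2.normRed A) := Algebra.IsIntegral.trans (CAlg2.red A)
  letI := Algebra.TensorProduct.rightAlgebra (R := A) (A := CAlg2.normRed A) (B := S)
  have h : Algebra.IsIntegral S (S ⊗[A] CAlg2.normRed A) := inferInstance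
  intro z
  obtain ⟨w, rfl⟩ := (Algebra.TensorProduct.commRight A S (CAlg2.normRed A)).surjective z
  exact (h.isIntegral w).map (Algebra.TensorProduct.commRight A S (CAlg2.normRed A)).toAlgHom

theorem hasUniqueMinimalPrime_base [Module.FaithfullyFlat A S] (h : CAlgX.HasUniqueMinimalPrime S) :
    CAlgX.HasUniqueMinimalPrime A := by
  obtain ⟨q0, hq0, huniq⟩ := h
  have hall : ∀ p ∈ minimalPrimes A, p = q0.comap (algebraMap A S) := fun p hp => by
    obtain ⟨⟨P, hP⟩, hPp⟩ := PrimeSpectrum.comap_surjective_of_faithfullyFlat (A := A) (B := S) ⟨p, hp.1.1⟩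
    obtain ⟨q, hq, hqP⟩ := Ideal.exists_minimalPrimes_le (I := (⊥ : Ideal S)) (J := P) bot_le
    have h1 : q0.comap (algebraMap A S) ≤ p := by
      rw [← huniq q hq, ← show P.comap (algebraMap A S) = p from congrArg PrimeSpectrum.asIdeal hPp]
      exact Ideal.comap_mono hqP
    exact le_antisymm (hp.2 ⟨hq0.1.1.comap _, bot_le⟩ h1) h1
  haveI : q0.IsPrime := hq0.1.1
  obtain ⟨p, hp, -⟩ := Ideal.exists_minimalPrimes_le (I := (⊥ : Ideal A)) (J := q0.comap (algebraMap A S)) bot_le
  exact ⟨p, hp, fun p' hp' => (hall p' hp').trans (hall p hp).symm⟩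

theorem finite_of_unique (h : CAlgX.HasUniqueMinimalPrime A) : Finite (minimalPrimes A) := by
  obtain ⟨p, -, hu⟩ := h
  exact ((Set.finite_singleton p).subset fun q hq => hu q hq).to_subtype

theorem isDomain_red_of_unique (h : CAlgX.HasUniqueMinimalPrime A) : IsDomain (CAlg2.red A) := by
  obtain ⟨p, hp, hu⟩ := h
  have : nilradical A = p := by
    rw [nilradical, ← Ideal.sInf_minimalPrimes]
    exact le_antisymm (sInf_le hp) (le_sInf fun q hq => (hu q hq).ge)
  refine (Ideal.Quotient.isDomain_iff_prime _).2 ?_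
  rw [this]
  exact hp.1.1

theorem unique_of_isDomain_red [IsDomain (CAlg2.red A)] : CAlgX.HasUniqueMinimalPrime A := by
  have hp : (nilradical A).IsPrime := (Ideal.Quotient.isDomain_iff_prime _).1 ‹_›
  have hle : ∀ q : Ideal A, q.IsPrime → nilradical A ≤ q := fun q hq => nilradical_le_prime q
  exact ⟨_, ⟨⟨hp, bot_le⟩, fun q hq _ => hle q hq.1⟩, fun q hq =>
    le_antisymm (hq.2 ⟨hp, bot_le⟩ (hle q hq.1.1)) (hle q hq.1.1)⟩

theorem hasUniqueMinimal_iff_unique_maximal [Finite (minimalPrimes A)] [Module.Flat A S]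
    [HenselianLocalRing S] (hT : Hensel.TrivialFibres A S) (hS : Smoothing.IndSmooth A S) :
    CAlgX.HasUniqueMinimalPrime S ↔ ∃! m : Ideal (CAlg2.normRed A ⊗[A] S), m.IsMaximal := by
  have hb := NormSH.bijOn_minimalPrimes (A := A) (Ash := S) hT
  have hmax := NormSH.existsUnique_maximal (A := A) (Ash := S)
  have hmin := NormSH.existsUnique_minimal (A := A) (Ash := S) hT hS
  constructor
  · rintro ⟨p, hp, hpu⟩
    obtain ⟨q, hq, hqp⟩ := hb.surjOn hp
    obtain ⟨m, ⟨hm, hqm⟩, hmu⟩ := hmax q hq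
    refine ⟨m, hm, fun m' hm' => ?_⟩
    obtain ⟨q', ⟨hq', hqm'⟩, -⟩ := hmin m' hm'
    have : q' = q := hb.injOn hq' hq ((hpu _ (hb.mapsTo hq')).trans hqp.symm)
    exact hmu m' ⟨hm', this ▸ hqm'⟩
  · rintro ⟨m, hm, hmu⟩
    obtain ⟨q, ⟨hq, hqm⟩, hqu⟩ := hmin m hm
    refine ⟨_, hb.mapsTo hq, fun p hp => ?_⟩
    obtain ⟨q', hq', rfl⟩ := hb.surjOn hp
    obtain ⟨m', ⟨hm', hqm'⟩, -⟩ := hmax q' hq'
    rw [hqu q' ⟨hq', hmu m' hm' ▸ hqm'⟩]

section loc

variable [IsLocalRing A] [IsLocalRing S]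

instance isIntegral_normRed : Algebra.IsIntegral A (CAlg2.normRed A) :=
  Algebra.IsIntegral.trans (CAlg2.red A)

/-- Maximal ideals of `A' ⊗ S` lie over the closed point of `S` and over maximal ideals of `A'`. -/
theorem comap_maximal (M : Ideal (CAlg2.normRed A ⊗[A] S)) [hM : M.IsMaximal] [IsLocalHom (algebraMap A S)] :
    M.comap (Algebra.TensorProduct.includeRight.toRingHom : S →+* CAlg2.normRed A ⊗[A] S) = maximalIdeal S ∧
    (M.comap (Algebra.TensorProduct.includeLeftRingHom : CAlg2.normRed A →+* CAlg2.normRed A ⊗[A] S)).IsMaximal := by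
  have h1 : M.comap (Algebra.TensorProduct.includeRight.toRingHom : S →+* CAlg2.normRed A ⊗[A] S) = maximalIdeal S :=
    IsLocalRing.eq_maximalIdeal (Ideal.isMaximal_comap_of_isIntegral_of_isMaximal' (R := S) (S := CAlg2.normRed A ⊗[A] S)
      (Algebra.TensorProduct.includeRight.toRingHom : S →+* CAlg2.normRed A ⊗[A] S) isIntegral_includeRight M)
  refine ⟨h1, ?_⟩
  have h2 : M.comap (algebraMap A (CAlg2.normRed A ⊗[A] S)) = maximalIdeal A := by
    rw [← (Algebra.TensorProduct.includeRight : S →ₐ[A] CAlg2.normRed A ⊗[A] S).comp_algebraMap]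
    refine (Ideal.comap_comap (algebraMap A S)
      (Algebra.TensorProduct.includeRight : S →ₐ[A] CAlg2.normRed A ⊗[A] S).toRingHom).symm.trans ?_
    rw [show M.comap (Algebra.TensorProduct.includeRight : S →ₐ[A] CAlg2.normRed A ⊗[A] S).toRingHom = _ from h1]
    exact (((IsLocalRing.local_hom_TFAE (algebraMap A S)).out 0 4).1 ‹_›)
  haveI : (M.comap (Algebra.TensorProduct.includeLeftRingHom : CAlg2.normRed A →+* CAlg2.normRed A ⊗[A] S)).IsPrime :=
    hM.isPrime.comap _
  refine Ideal.isMaximal_of_isIntegral_of_isMaximal_comap (R := A) _ ?_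
  rw [Ideal.comap_comap]
  rw [show (Algebra.TensorProduct.includeLeftRingHom : CAlg2.normRed A →+* CAlg2.normRed A ⊗[A] S).comp
    (algebraMap A (CAlg2.normRed A)) = algebraMap A (CAlg2.normRed A ⊗[A] S) from rfl, h2]
  exact maximalIdeal.isMaximal A

theorem comap_eq_of_isLocalRing_normRed [IsLocalRing (CAlg2.normRed A)] [IsLocalHom (algebraMap A S)]
    (M : Ideal (CAlg2.normRed A ⊗[A] S)) [M.IsMaximal] :
    M.comap (Algebra.TensorProduct.includeLeftRingHom : CAlg2.normRed A →+* CAlg2.normRed A ⊗[A] S) =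
      maximalIdeal (CAlg2.normRed A) :=
  IsLocalRing.eq_maximalIdeal (comap_maximal M).2

theorem isLocalRing_normRed_of_unique_maximal [Module.FaithfullyFlat A S] [IsLocalHom (algebraMap A S)]
    (h : ∃! m : Ideal (CAlg2.normRed A ⊗[A] S), m.IsMaximal) : IsLocalRing (CAlg2.normRed A) := by
  obtain ⟨M, hM, hu⟩ := h
  refine IsLocalRing.of_unique_max_ideal ⟨_, (comap_maximal M (hM := hM)).2, fun m hm => ?_⟩
  obtain ⟨⟨P, hP⟩, hPm⟩ := PrimeSpectrum.comap_surjective_of_faithfullyFlat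
    (A := CAlg2.normRed A) (B := CAlg2.normRed A ⊗[A] S) ⟨m, hm.isPrime⟩
  obtain ⟨M', hM', hle⟩ := Ideal.exists_le_maximal P hP.ne_top
  rw [← hu M' hM']
  have h1 : P.comap (Algebra.TensorProduct.includeLeftRingHom : CAlg2.normRed A →+* CAlg2.normRed A ⊗[A] S) = m :=
    congrArg PrimeSpectrum.asIdeal hPm
  exact hm.eq_of_le ((hM'.isPrime.comap _).ne_top) (h1 ▸ Ideal.comap_mono hle)

/-- At most one maximal ideal lies over the closed points, when a generating set of `W` allows
comparing every element with an element of `B`. -/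
theorem eq_of_residue {B W : Type u} [CommRing B] [IsLocalRing B] [CommRing W] (iL : B →+* W) (J : Ideal W)
    (gen : ∀ z, ∃ c, z - iL c ∈ J) {M M' : Ideal W} (hM : J ≤ M) (hM' : J ≤ M')
    (hcM : M.comap iL = maximalIdeal B) (hcM' : M'.comap iL = maximalIdeal B) : M' = M := by
  ext z
  obtain ⟨c, hc⟩ := gen z
  rw [mem_iff_of_sub_mem M' (hM' hc), mem_iff_of_sub_mem M (hM hc), ← Ideal.mem_comap, hcM',
    ← Ideal.mem_comap, hcM]

/-- At most one maximal ideal lies over the closed points of `B` and `S`, when `B` is purely inseparable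
over the image of `S` modulo these points. -/
theorem eq_of_insep {B S W : Type u} [CommRing B] [IsLocalRing B] [CommRing S] [IsLocalRing S] [CommRing W]
    (iL : B →+* W) (iR : S →+* W) (gen : ∀ P : W → Prop, P 0 → (∀ y s, P (iL y * iR s)) →
      (∀ z w, P z → P w → P (z + w)) → ∀ z, P z)
    {M M' : Ideal W} [hM : M.IsMaximal] [hM' : M'.IsMaximal]
    (hLM : M.comap iL = maximalIdeal B) (hLM' : M'.comap iL = maximalIdeal B)
    (hRM : M.comap iR = maximalIdeal S) (hRM' : M'.comap iR = maximalIdeal S)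
    (hins : ∀ y : B, ∃ (n : ℕ) (s : S), ∀ (N : Ideal W), (maximalIdeal B).map iL ≤ N →
      iL y ^ ringExpChar (ResidueField B) ^ n - iR s ∈ N) :
    M' = M := by
  set q := ringExpChar (ResidueField B) with hq
  have hqc : ExpChar (ResidueField B) q := ringExpChar.expChar _
  set J : Ideal W := (maximalIdeal B).map iL ⊔ (maximalIdeal S).map iR with hJdef
  have hJM : J ≤ M := sup_le (Ideal.map_le_iff_le_comap.2 hLM.ge) (Ideal.map_le_iff_le_comap.2 hRM.ge)
  have hJM' : J ≤ M' := sup_le (Ideal.map_le_iff_le_comap.2 hLM'.ge) (Ideal.map_le_iff_le_comap.2 hRM'.ge)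
  haveI : Nontrivial (W ⧸ J) :=
    Ideal.Quotient.nontrivial_iff.2 fun h => hM.ne_top (top_le_iff.1 (h ▸ hJM))
  let π := Ideal.Quotient.mk J
  have hkill : ∀ y ∈ maximalIdeal B, π (iL y) = 0 := fun y hy =>
    Ideal.Quotient.eq_zero_iff_mem.2 (Ideal.mem_sup_left (Ideal.mem_map_of_mem _ hy))
  haveI : ExpChar (W ⧸ J) q :=
    letI f : ResidueField B →+* W ⧸ J := Ideal.Quotient.lift (maximalIdeal B) (π.comp iL) hkill
    expChar_of_injective_ringHom (f := f) f.injective q
  have key : ∀ z, ∃ (N : ℕ) (s : S), π z ^ q ^ N = π (iR s) := by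
    refine gen _ ⟨0, 0, by simp⟩ (fun y s => ?_) ?_
    · obtain ⟨n, t, ht⟩ := hins y
      refine ⟨n, t * s ^ q ^ n, ?_⟩
      have h1 : π (iL y) ^ q ^ n = π (iR t) := by
        rw [← map_pow, Ideal.Quotient.eq]
        exact ht J le_sup_left
      rw [map_mul π, mul_pow, h1, map_mul iR, map_mul π, map_pow iR, map_pow π]
    · rintro z w ⟨N, s, hs⟩ ⟨N', t, ht⟩
      refine ⟨N + N', s ^ q ^ N' + t ^ q ^ N, ?_⟩
      rw [map_add π, add_pow_expChar_pow, map_add iR, map_add π, map_pow iR, map_pow π, map_pow iR,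
        map_pow π, ← hs, ← ht, ← pow_mul, ← pow_mul, ← pow_add, ← pow_add, Nat.add_comm N' N]
  ext z
  obtain ⟨N, s, hs⟩ := key z
  rw [← map_pow, Ideal.Quotient.eq] at hs
  have hqN : 0 < q ^ N := pow_pos (expChar_pos (ResidueField B) q) N
  have h : ∀ P : Ideal W, P.IsPrime → J ≤ P → P.comap iR = maximalIdeal S → (z ∈ P ↔ s ∈ maximalIdeal S) :=
    fun P hP hJP hc => by
      rw [← hc, Ideal.mem_comap, ← mem_iff_of_sub_mem P (hJP hs)]
      exact ⟨fun h => P.pow_mem_of_mem h _ hqN, fun h => hP.mem_of_pow_mem _ h⟩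
  rw [h M' hM'.isPrime hJM' hRM', h M hM.isPrime hJM hRM]

/-- Trivial residue extension: one maximal ideal. -/
theorem unique_maximal_of_residue_surjective [IsLocalRing (CAlg2.normRed A)] [IsLocalHom (algebraMap A S)]
    [Nontrivial (CAlg2.normRed A ⊗[A] S)]
    (hres : ∀ s : S, ∃ a : A, s - algebraMap A S a ∈ maximalIdeal S) :
    ∃! m : Ideal (CAlg2.normRed A ⊗[A] S), m.IsMaximal := by
  obtain ⟨M, hM⟩ := Ideal.exists_maximal (CAlg2.normRed A ⊗[A] S)
  refine ⟨M, hM, fun M' hM' => ?_⟩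
  haveI := hM; haveI := hM'
  let iR : S →+* CAlg2.normRed A ⊗[A] S := Algebra.TensorProduct.includeRight.toRingHom
  let iL : CAlg2.normRed A →+* CAlg2.normRed A ⊗[A] S := Algebra.TensorProduct.includeLeftRingHom
  have key : ∀ z, ∃ c, z - iL c ∈ (maximalIdeal S).map iR := fun z => by
    induction z using TensorProduct.induction_on with
    | zero => exact ⟨0, by simp⟩
    | tmul y s =>
      obtain ⟨a, ha⟩ := hres s
      refine ⟨y * algebraMap A _ a, ?_⟩
      have : y ⊗ₜ[A] s - iL (y * algebraMap A _ a) = iL y * iR (s - algebraMap A S a) := by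
        show y ⊗ₜ[A] s - (y * algebraMap A _ a) ⊗ₜ[A] (1 : S) = (y ⊗ₜ[A] (1 : S)) * ((1 : CAlg2.normRed A) ⊗ₜ[A] (s - algebraMap A S a))
        rw [Algebra.TensorProduct.tmul_mul_tmul, mul_one, one_mul, tmul_sub, mul_comm y, ← Algebra.smul_def, smul_tmul,
          ← Algebra.algebraMap_eq_smul_one]
      rw [this]
      exact Ideal.mul_mem_left _ _ (Ideal.mem_map_of_mem _ ha)
    | add z w hz hw =>
      obtain ⟨c, hc⟩ := hz
      obtain ⟨d, hd⟩ := hw
      refine ⟨c + d, ?_⟩
      have e : z + w - iL (c + d) = (z - iL c) + (w - iL d) := by rw [map_add iL]; ring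
      rw [e]; exact add_mem hc hd
  exact eq_of_residue (W := CAlg2.normRed A ⊗[A] S) iL _ key
    (Ideal.map_le_iff_le_comap.2 (comap_maximal M).1.ge) (Ideal.map_le_iff_le_comap.2 (comap_maximal M').1.ge)
    (comap_eq_of_isLocalRing_normRed M) (comap_eq_of_isLocalRing_normRed M')

/-- Purely inseparable residue extension of `A'`: one maximal ideal. -/
theorem unique_maximal_of_insep [IsLocalRing (CAlg2.normRed A)] [IsLocalHom (algebraMap A S)]
    [Nontrivial (CAlg2.normRed A ⊗[A] S)]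
    (hins : ∀ y : CAlg2.normRed A, ∃ (n : ℕ) (a : A),
      y ^ ringExpChar (ResidueField (CAlg2.normRed A)) ^ n - algebraMap A _ a ∈ maximalIdeal (CAlg2.normRed A)) :
    ∃! m : Ideal (CAlg2.normRed A ⊗[A] S), m.IsMaximal := by
  obtain ⟨M, hM⟩ := Ideal.exists_maximal (CAlg2.normRed A ⊗[A] S)
  refine ⟨M, hM, fun M' hM' => ?_⟩
  haveI := hM; haveI := hM'
  let iR : S →+* CAlg2.normRed A ⊗[A] S := Algebra.TensorProduct.includeRight.toRingHom
  let iL : CAlg2.normRed A →+* CAlg2.normRed A ⊗[A] S := Algebra.TensorProduct.includeLeftRingHom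
  refine eq_of_insep (W := CAlg2.normRed A ⊗[A] S) iL iR (fun P h0 hm ha z => ?_) (comap_eq_of_isLocalRing_normRed M)
    (comap_eq_of_isLocalRing_normRed M') (comap_maximal M).1 (comap_maximal M').1 fun y => ?_
  · induction z using TensorProduct.induction_on with
    | zero => exact h0
    | add z w hz hw => exact ha z w hz hw
    | tmul y s =>
      have h2 : y ⊗ₜ[A] s = iL y * iR s := by
        show y ⊗ₜ[A] s = (y ⊗ₜ[A] (1 : S)) * ((1 : CAlg2.normRed A) ⊗ₜ[A] s)
        rw [Algebra.TensorProduct.tmul_mul_tmul, mul_one, one_mul]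
      exact h2 ▸ hm y s
  · obtain ⟨n, a, ha⟩ := hins y
    refine ⟨n, algebraMap A S a, fun N hN => ?_⟩
    have h1 : iR (algebraMap A S a) = iL (algebraMap A (CAlg2.normRed A) a) := by
      show (1 : CAlg2.normRed A) ⊗ₜ[A] algebraMap A S a = (algebraMap A (CAlg2.normRed A) a) ⊗ₜ[A] (1 : S)
      rw [Algebra.algebraMap_eq_smul_one, Algebra.algebraMap_eq_smul_one, smul_tmul]
    rw [h1, ← map_pow, ← map_sub iL]
    exact hN (Ideal.mem_map_of_mem _ ha)

end loc

end Groth.Agent.Branch
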