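import Groth.Agent.Branch.Main

/-!
# A criterion for geometrically unibranch, and radicial integral base change
-/

set_option autoImplicit false
universe u

open TensorProduct IsLocalRing

namespace Groth.Agent.Branch

/-- A local ring with an injective integral map to a normal local domain with radicial residue extension is
a geometrically unibranch domain. -/
theorem isGeomUnibranch_of_integral {L W : Type u} [CommRing L] [IsLocalRing L] [CommRing W] [IsLocalRing W]
    [IsDomain W] [IsIntegrallyClosed W] [Algebra L W] [Algebra.IsIntegral L W]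
    (hinj : Function.Injective (algebraMap L W))
    (hins : ∀ w : W, ∃ (n : ℕ) (s : L),
      w ^ ringExpChar (ResidueField W) ^ n - algebraMap L W s ∈ maximalIdeal W) :
    IsDomain L ∧ CAlg2.IsGeomUnibranch L := by
  haveI hL : IsDomain L := hinj.isDomain _
  have hnil : nilradical L = ⊥ := nilradical_eq_zero L
  haveI hred : IsDomain (CAlg2.red L) := by
    refine (Ideal.Quotient.isDomain_iff_prime _).2 ?_
    rw [hnil]; exact Ideal.isPrime_bot
  let φ0 : CAlg2.red L →+* W := Ideal.Quotient.lift _ (algebraMap L W) fun x hx => by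
    rw [hnil] at hx; rw [(Ideal.mem_bot).1 hx, map_zero]
  have hφ0 : Function.Injective φ0 := by
    refine RingHom.lift_injective_of_ker_le_ideal _ _ ?_
    rw [(RingHom.injective_iff_ker_eq_bot _).1 hinj]; exact bot_le
  let φ : FractionRing (CAlg2.red L) →+* FractionRing W :=
    IsFractionRing.map hφ0
  have hφ : ∀ x, φ (algebraMap (CAlg2.red L) _ x) = algebraMap W (FractionRing W) (φ0 x) := fun x =>
    IsLocalization.map_eq _ x
  have hint : ∀ y : CAlg2.normRed L, ∃ w : W, algebraMap W (FractionRing W) w = φ y.1 := fun y => by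
    have h1 : IsIntegral (CAlg2.red L) y.1 := y.2
    obtain ⟨p, hp, hp'⟩ := h1
    refine IsIntegrallyClosed.isIntegral_iff.1 ⟨p.map φ0, hp.map _, ?_⟩
    rw [Polynomial.eval₂_map, show (algebraMap W (FractionRing W)).comp φ0 = φ.comp (algebraMap (CAlg2.red L) _) from
      (RingHom.ext fun x => (hφ x).symm), ← Polynomial.hom_eval₂, hp', map_zero]
  choose ψ0 hψ0 using hint
  have hWinj := IsFractionRing.injective W (FractionRing W)
  let ψ : CAlg2.normRed L →+* W :=
    { toFun := ψ0
      map_one' := hWinj (by rw [hψ0, map_one]; exact map_one φ)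
      map_mul' := fun x y => hWinj (by rw [hψ0, map_mul, hψ0, hψ0]; exact map_mul φ _ _)
      map_zero' := hWinj (by rw [hψ0, map_zero]; exact map_zero φ)
      map_add' := fun x y => hWinj (by rw [hψ0, map_add, hψ0, hψ0]; exact map_add φ _ _) }
  have hψcomp : ψ.comp (algebraMap L (CAlg2.normRed L)) = algebraMap L W := by
    refine RingHom.ext fun x => hWinj ?_
    rw [RingHom.comp_apply]
    exact (hψ0 _).trans ((hφ (Ideal.Quotient.mk _ x)).trans rfl)
  have hψinj : Function.Injective ψ := fun x y h => by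
    refine Subtype.ext (φ.injective ?_)
    rw [← hψ0, ← hψ0]
    exact congrArg _ h
  have hψint : ψ.IsIntegral :=
    RingHom.IsIntegral.tower_top (algebraMap L (CAlg2.normRed L)) ψ
      (by rw [hψcomp]; exact algebraMap_isIntegral_iff.2 ‹_›)
  haveI : IsLocalHom ψ := hψint.isLocalHom hψinj
  haveI hloc : IsLocalRing (CAlg2.normRed L) := RingHom.domain_isLocalRing ψ
  refine ⟨hL, ⟨⟨hred, hloc⟩, (insep_iff (A := L)).2 fun y => ?_⟩⟩
  obtain ⟨n, s, hs⟩ := hins (ψ y)
  set q := ringExpChar (ResidueField (CAlg2.normRed L)) with hq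
  haveI : ExpChar (ResidueField (CAlg2.normRed L)) q := ringExpChar.expChar _
  haveI : ExpChar (ResidueField W) q :=
    expChar_of_injective_ringHom (f := ResidueField.map ψ) (RingHom.injective _) q
  rw [ringExpChar.eq (ResidueField W) q] at hs
  refine ⟨n, s, ?_⟩
  rw [← map_pow, ← hψcomp, RingHom.comp_apply, ← map_sub ψ] at hs
  exact (map_mem_nonunits_iff ψ _).1 hs

/-- In a ring generated by the images of `B` and `S`, radicial over `S` modulo the closed points. -/
theorem exists_pow_of_insep {B S W : Type u} [CommRing B] [IsLocalRing B] [CommRing S] [IsLocalRing S] [CommRing W]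
    (iL : B →+* W) (iR : S →+* W) (gen : ∀ P : W → Prop, P 0 → (∀ y s, P (iL y * iR s)) →
      (∀ z w, P z → P w → P (z + w)) → ∀ z, P z)
    (J : Ideal W) [hJ' : Nontrivial (W ⧸ J)] (hJ : (maximalIdeal B).map iL ≤ J)
    (hins : ∀ y : B, ∃ (n : ℕ) (s : S), iL y ^ ringExpChar (ResidueField B) ^ n - iR s ∈ J) (z : W) :
    ∃ (N : ℕ) (s : S), z ^ ringExpChar (ResidueField B) ^ N - iR s ∈ J := by
  set q := ringExpChar (ResidueField B) with hq
  have hqc : ExpChar (ResidueField B) q := ringExpChar.expChar _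
  let π := Ideal.Quotient.mk J
  have hkill : ∀ y ∈ maximalIdeal B, π (iL y) = 0 := fun y hy =>
    Ideal.Quotient.eq_zero_iff_mem.2 (hJ (Ideal.mem_map_of_mem _ hy))
  haveI : ExpChar (W ⧸ J) q :=
    letI f : ResidueField B →+* W ⧸ J := Ideal.Quotient.lift (maximalIdeal B) (π.comp iL) hkill
    expChar_of_injective_ringHom (f := f) f.injective q
  have key : ∀ z, ∃ (N : ℕ) (s : S), π z ^ q ^ N = π (iR s) := by
    refine gen _ ⟨0, 0, by simp⟩ (fun y s => ?_) ?_
    · obtain ⟨n, t, ht⟩ := hins y
      refine ⟨n, t * s ^ q ^ n, ?_⟩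
      have h1 : π (iL y) ^ q ^ n = π (iR t) := by
        rw [← map_pow, Ideal.Quotient.eq]
        exact ht
      rw [map_mul π, mul_pow, h1, map_mul iR, map_mul π, map_pow iR, map_pow π]
    · rintro z w ⟨N, s, hs⟩ ⟨N', t, ht⟩
      refine ⟨N + N', s ^ q ^ N' + t ^ q ^ N, ?_⟩
      rw [map_add π, add_pow_expChar_pow, map_add iR, map_add π, map_pow iR, map_pow π, map_pow iR,
        map_pow π, ← hs, ← ht, ← pow_mul, ← pow_mul, ← pow_add, ← pow_add, Nat.add_comm N' N]
  obtain ⟨N, s, hs⟩ := key z
  rw [← map_pow, Ideal.Quotient.eq] at hs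
  exact ⟨N, s, hs⟩

end Groth.Agent.Branch
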