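import Groth.Agent.Branch.UnramifiedScheme
import Groth.Agent.AlgSpc.EtLocInst

/-!
# Cancelling etale morphisms over geometrically unibranch points
-/

set_option autoImplicit false
universe u

open CategoryTheory AlgebraicGeometry TopologicalSpace

namespace Groth.Agent.Branch

theorem etale_of_comp {X Y Z : Scheme.{u}} (f : X ⟶ Y) (g : Y ⟶ Z) [IsIntegral Y] (x : X)
    (hY : CAlg2.IsGeomUnibranch (Y.presheaf.stalk (f x))) (het : ∃ U : X.Opens, x ∈ U ∧ Etale (U.ι ≫ f ≫ g))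
    (hsp : ∃ x' : X, x' ⤳ x ∧ f x' = genericPoint ↑Y) :
    (∃ U : X.Opens, x ∈ U ∧ Etale (U.ι ≫ f)) ∧ ∃ V : Y.Opens, f x ∈ V ∧ Etale (V.ι ≫ g) := by
  obtain ⟨U, hxU, hU⟩ := het
  obtain ⟨x', hx', hη⟩ := hsp
  haveI : Etale ((U.ι ≫ f) ≫ g) := by rw [Category.assoc]; exact hU
  haveI : LocallyOfFiniteType (U.ι ≫ f) := locallyOfFiniteType_of_comp _ g
  haveI : FormallyUnramified (U.ι ≫ f) := FormallyUnramified.of_comp _ g
  have hx'U : x' ∈ U := hx'.mem_open U.isOpen hxU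
  let u0 : U := ⟨x, hxU⟩
  obtain ⟨W, hxW, hW⟩ := etale_nhd_of_injective (U.ι ≫ f) u0 hY (FormallyUnramified.stalkMap _ _)
    (injective_of_generization (U.ι ≫ f) u0 ⟨x', hx'U⟩ ((subtype_specializes_iff _ _).2 hx') hη)
  let V : Y.Opens := ⟨Set.range (W.ι ≫ U.ι ≫ f), (W.ι ≫ U.ι ≫ f).isOpenMap.isOpen_range⟩
  refine ⟨⟨U.ι ''ᵁ W, ⟨u0, hxW, rfl⟩, ?_⟩, V, ⟨⟨u0, hxW⟩, rfl⟩, ?_⟩
  · rw [← Scheme.Hom.isoImage_inv_ι_assoc (U.ι) W f]
    infer_instance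
  · let e : W.toScheme ⟶ V.toScheme := IsOpenImmersion.lift V.ι (W.ι ≫ U.ι ≫ f) (by rw [Scheme.Opens.range_ι]; rfl)
    have he : e ≫ V.ι = W.ι ≫ U.ι ≫ f := IsOpenImmersion.lift_fac _ _ _
    haveI : Etale (e ≫ V.ι) := by rw [he]; exact hW
    have h1 : Etale e := Etale.of_comp e V.ι
    have h2 : Surjective e := ⟨fun v => by
      obtain ⟨w, hw⟩ := v.2
      refine ⟨w, V.ι.isOpenEmbedding.injective ?_⟩
      rw [← Scheme.Hom.comp_apply, he]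
      exact hw⟩
    refine AlgSpc.EtLoc.descend (P := @Etale) e (V.ι ≫ g) h1 h2 ?_
    show Etale (e ≫ V.ι ≫ g)
    rw [← Category.assoc, he, Category.assoc]
    infer_instance

end Groth.Agent.Branch
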