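import Groth.Agent.Branch.Smooth
import Groth.Agent.Hensel.StrictQuot
import Groth.Agent.Hensel.HenselTransfer

/-!
# Primes of a strictly henselian ring stay prime in smooth étale local rings
-/

set_option autoImplicit false
universe u

open TensorProduct IsLocalRing

namespace Groth.Agent.Branch

theorem smooth_quotient_baseChange (R R' : Type u) [CommRing R] [CommRing R'] [Algebra R R'] [Algebra.Smooth R R']
    (J : Ideal R) : Algebra.Smooth (R ⧸ J) (R' ⧸ J.map (algebraMap R R')) := by
  let φ : (R ⧸ J) ⊗[R] R' →ₐ[R ⧸ J] R' ⧸ J.map (algebraMap R R') :=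
    Algebra.TensorProduct.lift (Algebra.ofId _ _) (Ideal.Quotient.mkₐ R _) fun _ _ => Commute.all _ _
  let ψ : R' ⧸ J.map (algebraMap R R') →+* (R ⧸ J) ⊗[R] R' :=
    Ideal.Quotient.lift _ Algebra.TensorProduct.includeRight.toRingHom fun x hx => by
      refine (Ideal.map_le_iff_le_comap (K := RingHom.ker (Algebra.TensorProduct.includeRight :
        R' →ₐ[R] (R ⧸ J) ⊗[R] R').toRingHom)).2 (fun a ha => ?_) hx
      show (1 : R ⧸ J) ⊗ₜ[R] algebraMap R R' a = 0
      rw [Algebra.algebraMap_eq_smul_one, ← smul_tmul, ← Algebra.algebraMap_eq_smul_one,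
        Ideal.Quotient.algebraMap_eq, Ideal.Quotient.eq_zero_iff_mem.2 ha, zero_tmul]
  have hφ : ∀ c x, φ (c ⊗ₜ[R] x) = algebraMap (R ⧸ J) _ c * Ideal.Quotient.mk _ x := fun c x =>
    Algebra.TensorProduct.lift_tmul _ _ _ c x
  have h2 : ∀ z, φ (ψ z) = z := fun z => by
    obtain ⟨x, rfl⟩ := Ideal.Quotient.mk_surjective z
    show φ ((1 : R ⧸ J) ⊗ₜ[R] x) = _
    rw [hφ, map_one, one_mul]
  have h1 : ∀ z, ψ (φ z) = z := fun z => by
    induction z using TensorProduct.induction_on with
    | zero => rw [map_zero, map_zero]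
    | add z w hz hw => rw [map_add, map_add, hz, hw]
    | tmul c x =>
      obtain ⟨a, rfl⟩ := Ideal.Quotient.mk_surjective c
      rw [hφ]
      show ψ (Ideal.Quotient.mk _ (algebraMap R R' a) * Ideal.Quotient.mk _ x) = _
      rw [← map_mul]
      show (1 : R ⧸ J) ⊗ₜ[R] (algebraMap R R' a * x) = _
      rw [← Algebra.smul_def, tmul_smul, smul_tmul', Algebra.smul_def, mul_one, Ideal.Quotient.algebraMap_eq]
  exact Algebra.Smooth.of_equiv (AlgEquiv.ofBijective φ
    ⟨Function.LeftInverse.injective h1, Function.RightInverse.surjective h2⟩)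

theorem prime_map_strictHenselization (R R' T : Type u) [CommRing R] [HenselianLocalRing R]
    [IsSepClosed (ResidueField R)] [CommRing R'] [Algebra R R'] [Algebra.Smooth R R']
    (q : Ideal R') [q.IsPrime] (hq : (maximalIdeal R).map (algebraMap R R') ≤ q)
    [CommRing T] [IsLocalRing T] [Algebra (Localization.AtPrime q) T]
    [IsLocalHom (algebraMap (Localization.AtPrime q) T)]
    [_root_.Hensel.IsStrictHenselization (Localization.AtPrime q) T]
    (Δ : R) (hΔ : Prime Δ) (hne : algebraMap (Localization.AtPrime q) T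
      (algebraMap R' (Localization.AtPrime q) (algebraMap R R' Δ)) ≠ 0) :
    Prime (algebraMap (Localization.AtPrime q) T
      (algebraMap R' (Localization.AtPrime q) (algebraMap R R' Δ))) := by
  let J : Ideal R := Ideal.span {Δ}
  haveI hJp : J.IsPrime := (Ideal.span_singleton_prime hΔ.ne_zero).2 hΔ
  haveI : Nontrivial (R ⧸ J) := Ideal.Quotient.nontrivial_iff.2 hJp.ne_top
  haveI : HenselianLocalRing (R ⧸ J) := Hensel.henselianLocalRing_of_isIntegral (R := R) (R ⧸ J)
  haveI : IsLocalHom (Ideal.Quotient.mk J) := IsLocalHom.of_surjective _ Ideal.Quotient.mk_surjective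
  haveI : IsSepClosed (ResidueField (R ⧸ J)) :=
    Hensel.isSepClosed_of_ringEquiv (RingEquiv.ofBijective (ResidueField.map (Ideal.Quotient.mk J))
      ⟨RingHom.injective _, fun z => by
        obtain ⟨y, rfl⟩ := IsLocalRing.residue_surjective z
        obtain ⟨x, rfl⟩ := Ideal.Quotient.mk_surjective y
        exact ⟨residue R x, rfl⟩⟩)
  let J' : Ideal R' := J.map (algebraMap R R')
  haveI := smooth_quotient_baseChange R R' J
  have hJq : J' ≤ q := (Ideal.map_mono (IsLocalRing.le_maximalIdeal hJp.ne_top)).trans hq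
  let qb : Ideal (R' ⧸ J') := q.map (Ideal.Quotient.mk J')
  haveI : qb.IsPrime := Ideal.map_isPrime_of_surjective Ideal.Quotient.mk_surjective (by rwa [Ideal.mk_ker])
  have hqb : (maximalIdeal (R ⧸ J)).map (algebraMap (R ⧸ J) (R' ⧸ J')) ≤ qb := by
    rw [← IsLocalRing.map_maximalIdeal_of_surjective (Ideal.Quotient.mk J) Ideal.Quotient.mk_surjective,
      Ideal.map_map, Ideal.map_le_iff_le_comap]
    intro a ha
    exact Ideal.mem_map_of_mem (Ideal.Quotient.mk J') (hq (Ideal.mem_map_of_mem _ ha))
  haveI := (inferInstance : IsDomain (R ⧸ J))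
  obtain ⟨hD, hG⟩ := isGeomUnibranch_smooth (R ⧸ J) (R' ⧸ J') qb hqb
  -- the quotient of `R'_q` is `(R'/J')_q̄`
  let I : Ideal (Localization.AtPrime q) := J'.map (algebraMap R' (Localization.AtPrime q))
  haveI : IsLocalization (Algebra.algebraMapSubmonoid (R' ⧸ J') q.primeCompl) (Localization.AtPrime q ⧸ I) :=
    inferInstance
  have hsub : Algebra.algebraMapSubmonoid (R' ⧸ J') q.primeCompl = qb.primeCompl := by
    ext x
    constructor
    · rintro ⟨s, hs, rfl⟩ hsq
      apply hs
      have := (Ideal.mem_map_iff_of_surjective _ Ideal.Quotient.mk_surjective).1 hsq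
      obtain ⟨t, ht, hts⟩ := this
      exact (mem_iff_of_sub_mem q (hJq (Ideal.Quotient.eq.1 hts))).1 ht
    · intro hx
      obtain ⟨s, rfl⟩ := Ideal.Quotient.mk_surjective x
      exact ⟨s, fun hs => hx (Ideal.mem_map_of_mem _ hs), rfl⟩
  haveI : IsLocalization qb.primeCompl (Localization.AtPrime q ⧸ I) := hsub ▸ inferInstance
  let e : (Localization.AtPrime q ⧸ I) ≃+* Localization.AtPrime qb :=
    (IsLocalization.algEquiv qb.primeCompl (Localization.AtPrime q ⧸ I) (Localization.AtPrime qb)).toRingEquiv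
  haveI : Nontrivial (Localization.AtPrime q ⧸ I) := e.toEquiv.nontrivial
  haveI : IsLocalRing (Localization.AtPrime q ⧸ I) := IsLocalRing.of_surjective' _ Ideal.Quotient.mk_surjective
  let IT : Ideal T := I.map (algebraMap (Localization.AtPrime q) T)
  have hIne : I ≠ ⊤ := Ideal.Quotient.nontrivial_iff.1 ‹_›
  have hITne : IT ≤ maximalIdeal T := Ideal.map_le_iff_le_comap.2 fun x hx =>
    map_nonunit (algebraMap (Localization.AtPrime q) T) x (IsLocalRing.le_maximalIdeal hIne hx)
  haveI : Nontrivial (T ⧸ IT) :=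
    Ideal.Quotient.nontrivial_iff.2 fun h => (maximalIdeal.isMaximal T).ne_top (top_le_iff.1 (h ▸ hITne))
  haveI : IsLocalRing (T ⧸ IT) := IsLocalRing.of_surjective' _ Ideal.Quotient.mk_surjective
  haveI : IsLocalHom (algebraMap (Localization.AtPrime q ⧸ I) (T ⧸ IT)) := by
    constructor
    intro x hx
    obtain ⟨y, rfl⟩ := Ideal.Quotient.mk_surjective x
    haveI : IsLocalHom (Ideal.Quotient.mk IT) := IsLocalHom.of_surjective _ Ideal.Quotient.mk_surjective
    exact (isUnit_of_map_unit (algebraMap (Localization.AtPrime q) T) y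
      (isUnit_of_map_unit (Ideal.Quotient.mk IT) _ hx)).map _
  haveI := Hensel.isStrictHenselization_quotient (R := Localization.AtPrime q) (S := T) I
  -- transport to the localization
  letI : Algebra (Localization.AtPrime qb) (T ⧸ IT) :=
    ((algebraMap (Localization.AtPrime q ⧸ I) (T ⧸ IT)).comp e.symm.toRingHom).toAlgebra
  haveI : IsLocalHom e.symm.toRingHom := ⟨fun a ha => by simpa using ha.map e⟩
  haveI : IsLocalHom e.toRingHom := ⟨fun a ha => by simpa using ha.map e.symm⟩
  haveI : IsLocalHom (algebraMap (Localization.AtPrime qb) (T ⧸ IT)) := RingHom.isLocalHom_comp _ _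
  haveI hsh : _root_.Hensel.IsStrictHenselization (Localization.AtPrime qb) (T ⧸ IT) := by
    refine Hensel.isStrictHenselization_of_factor (R := Localization.AtPrime q ⧸ I) (ι := e.toRingHom) ?_ ?_
    · refine RingHom.ext fun x => ?_
      show algebraMap (Localization.AtPrime q ⧸ I) (T ⧸ IT) (e.symm (e x)) = _
      rw [e.symm_apply_apply]
    · intro U _ _ f₁ f₂ _ h _
      refine RingHom.ext fun d => ?_
      obtain ⟨x, rfl⟩ := e.surjective d
      exact DFunLike.congr_fun h x
  have hred : IsReduced (T ⧸ IT) := by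
    haveI := hD
    exact (Hensel.strictHenselization_isReduced_iff (R := Localization.AtPrime qb) (S := T ⧸ IT)).1 inferInstance
  haveI := hred
  have hdom : IsDomain (T ⧸ IT) := isDomain_iff.2 ((isGeomUnibranch_iff (A := Localization.AtPrime qb)).1 hG)
  have hIT : IT = Ideal.span {algebraMap (Localization.AtPrime q) T
      (algebraMap R' (Localization.AtPrime q) (algebraMap R R' Δ))} := by
    simp only [IT, I, J', J, Ideal.map_span, Set.image_singleton]
  refine (Ideal.span_singleton_prime hne).1 ?_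
  rw [← hIT]
  exact (Ideal.Quotient.isDomain_iff_prime _).1 hdom

end Groth.Agent.Branch
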