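import Groth.Agent.Branch.BaseChange
import Groth.Agent.Hensel.HenselTransfer

/-!
# Geometrically unibranch local rings: transport, smooth algebras
-/

set_option autoImplicit false
universe u

open TensorProduct IsLocalRing

namespace Groth.Agent.Branch

/-- Being geometrically unibranch is invariant under isomorphisms. -/
theorem isGeomUnibranch_of_ringEquiv {L L' : Type u} [CommRing L] [IsLocalRing L] [CommRing L'] [IsLocalRing L']
    (e : L ≃+* L') (h : CAlg2.IsGeomUnibranch L) : CAlg2.IsGeomUnibranch L' := by
  obtain ⟨S, _, _, _, _, hS⟩ := Hensel.exists_isStrictHenselization L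
  letI : Algebra L' S := ((algebraMap L S).comp e.symm.toRingHom).toAlgebra
  haveI : IsLocalHom e.symm.toRingHom := ⟨fun a ha => by simpa using ha.map e⟩
  haveI : IsLocalHom e.toRingHom := ⟨fun a ha => by simpa using ha.map e.symm⟩
  haveI : IsLocalHom (algebraMap L' S) := RingHom.isLocalHom_comp _ _
  haveI : _root_.Hensel.IsStrictHenselization L' S := by
    refine Hensel.isStrictHenselization_of_factor (R := L) (ι := e.toRingHom) ?_ ?_
    · refine RingHom.ext fun x => ?_
      show algebraMap L S (e.symm (e x)) = _
      rw [e.symm_apply_apply]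
    · intro U _ _ f₁ f₂ _ h _
      refine RingHom.ext fun d => ?_
      obtain ⟨x, rfl⟩ := e.surjective d
      exact DFunLike.congr_fun h x
  exact (isGeomUnibranch_iff (A := L') (S := S)).2 ((isGeomUnibranch_iff (A := L) (S := S)).1 h)

/-- `C_p` is the localization of `A_P ⊗ C` at a prime over the closed point. -/
theorem exists_tensor_localization_equiv (A C : Type u) [CommRing A] [CommRing C] [Algebra A C]
    (P : Ideal A) [P.IsPrime] (p : Ideal C) [p.IsPrime] (hp : p.comap (algebraMap A C) = P) :
    ∃ (q : Ideal (Localization.AtPrime P ⊗[A] C)) (_ : q.IsPrime),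
      q.comap (algebraMap (Localization.AtPrime P) (Localization.AtPrime P ⊗[A] C)) = maximalIdeal _ ∧
      Nonempty (Localization.AtPrime q ≃+* Localization.AtPrime p) := by
  let l : Localization.AtPrime P →ₐ[A] Localization.AtPrime p :=
    { Localization.localRingHom P p (algebraMap A C) hp.symm with
      commutes' := fun a => by
        refine (Localization.localRingHom_to_map P p (algebraMap A C) hp.symm a).trans ?_
        exact (IsScalarTower.algebraMap_apply A C (Localization.AtPrime p) a).symm }
  let θ : Localization.AtPrime P ⊗[A] C →ₐ[A] Localization.AtPrime p :=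
    Algebra.TensorProduct.lift l (IsScalarTower.toAlgHom A C _) fun _ _ => Commute.all _ _
  let q : Ideal (Localization.AtPrime P ⊗[A] C) := (maximalIdeal (Localization.AtPrime p)).comap θ.toRingHom
  haveI hqp : q.IsPrime := Ideal.IsPrime.comap _
  have hθL : ∀ b, θ (b ⊗ₜ[A] (1 : C)) = l b := fun b => by simp [θ]
  have hθR : ∀ c, θ ((1 : Localization.AtPrime P) ⊗ₜ[A] c) = algebraMap C _ c := fun c => by simp [θ]
  refine ⟨q, hqp, ?_, ⟨?_⟩⟩
  · haveI : IsLocalHom (Localization.localRingHom P p (algebraMap A C) hp.symm) :=
      Localization.isLocalHom_localRingHom _ _ _ _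
    ext b
    show θ (b ⊗ₜ[A] (1 : C)) ∈ maximalIdeal _ ↔ b ∈ maximalIdeal _
    rw [hθL]
    exact map_mem_nonunits_iff (Localization.localRingHom P p (algebraMap A C) hp.symm) b
  have hu : ∀ x : q.primeCompl, IsUnit (θ.toRingHom (x : Localization.AtPrime P ⊗[A] C)) := fun x =>
    IsLocalRing.notMem_maximalIdeal.1 x.2
  let F : Localization.AtPrime q →+* Localization.AtPrime p := IsLocalization.lift (g := θ.toRingHom) hu
  let g0 : C →+* Localization.AtPrime q := (algebraMap (Localization.AtPrime P ⊗[A] C) _).comp
    (Algebra.TensorProduct.includeRight : C →ₐ[A] Localization.AtPrime P ⊗[A] C).toRingHom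
  have hu' : ∀ x : p.primeCompl, IsUnit (g0 x) := fun x =>
    IsLocalization.map_units (Localization.AtPrime q) (⟨(1 : Localization.AtPrime P) ⊗ₜ[A] (x : C), fun h => x.2 <| by
      have h1 : algebraMap C (Localization.AtPrime p) x ∈ maximalIdeal _ := (hθR x) ▸ h
      exact (IsLocalization.AtPrime.to_map_mem_maximal_iff _ p _).1 h1⟩ : q.primeCompl)
  let G : Localization.AtPrime p →+* Localization.AtPrime q := IsLocalization.lift (g := g0) hu'
  refine RingEquiv.ofRingHom F G ?_ ?_
  · refine IsLocalization.ringHom_ext p.primeCompl (RingHom.ext fun c => ?_)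
    show F (G (algebraMap C _ c)) = algebraMap C _ c
    rw [IsLocalization.lift_eq hu']
    exact (IsLocalization.lift_eq hu _).trans (hθR c)
  · refine IsLocalization.ringHom_ext q.primeCompl ?_
    have hL : ((G.comp F).comp (algebraMap (Localization.AtPrime P ⊗[A] C) (Localization.AtPrime q))).comp
        (Algebra.TensorProduct.includeLeftRingHom : Localization.AtPrime P →+* Localization.AtPrime P ⊗[A] C) =
        ((RingHom.id _).comp (algebraMap (Localization.AtPrime P ⊗[A] C) (Localization.AtPrime q))).comp
          Algebra.TensorProduct.includeLeftRingHom := by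
      refine IsLocalization.ringHom_ext P.primeCompl (RingHom.ext fun a => ?_)
      show G (F (algebraMap _ _ (algebraMap A (Localization.AtPrime P) a ⊗ₜ[A] (1 : C)))) =
        algebraMap _ (Localization.AtPrime q) (algebraMap A (Localization.AtPrime P) a ⊗ₜ[A] (1 : C))
      have e1 : algebraMap A (Localization.AtPrime P) a ⊗ₜ[A] (1 : C) =
          (1 : Localization.AtPrime P) ⊗ₜ[A] algebraMap A C a := by
        rw [Algebra.algebraMap_eq_smul_one, Algebra.algebraMap_eq_smul_one, smul_tmul]
      rw [e1, show F (algebraMap _ _ ((1 : Localization.AtPrime P) ⊗ₜ[A] algebraMap A C a)) =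
        algebraMap C (Localization.AtPrime p) (algebraMap A C a) from
          (IsLocalization.lift_eq hu _).trans (hθR _), IsLocalization.lift_eq hu']
      rfl
    have hR : ∀ c : C, ((G.comp F).comp (algebraMap (Localization.AtPrime P ⊗[A] C) (Localization.AtPrime q))) ((1 : Localization.AtPrime P) ⊗ₜ[A] c) =
        ((RingHom.id _).comp (algebraMap (Localization.AtPrime P ⊗[A] C) (Localization.AtPrime q)))
          ((1 : Localization.AtPrime P) ⊗ₜ[A] c) := fun c => by
      show G (F (algebraMap _ _ ((1 : Localization.AtPrime P) ⊗ₜ[A] c))) =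
        algebraMap _ (Localization.AtPrime q) ((1 : Localization.AtPrime P) ⊗ₜ[A] c)
      rw [show F (algebraMap _ _ ((1 : Localization.AtPrime P) ⊗ₜ[A] c)) =
        algebraMap C (Localization.AtPrime p) c from
          (IsLocalization.lift_eq hu _).trans (hθR _), IsLocalization.lift_eq hu']
      rfl
    refine RingHom.ext fun z => ?_
    induction z using TensorProduct.induction_on with
    | zero => simp only [map_zero]
    | add z w hz hw => simp only [map_add, hz, hw]
    | tmul b c =>
      have e : b ⊗ₜ[A] c = (b ⊗ₜ[A] (1 : C)) * ((1 : Localization.AtPrime P) ⊗ₜ[A] c) := by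
        rw [Algebra.TensorProduct.tmul_mul_tmul, mul_one, one_mul]
      rw [e, map_mul, map_mul, hR c]
      exact congrArg (· * _) (RingHom.congr_fun hL b)

/-- Points of smooth algebras over geometrically unibranch local rings. -/
theorem isGeomUnibranch_of_smooth_at (A C : Type u) [CommRing A] [CommRing C] [Algebra A C] [Algebra.Smooth A C]
    (P : Ideal A) [P.IsPrime] (p : Ideal C) [p.IsPrime] (hp : p.comap (algebraMap A C) = P)
    (hG : CAlg2.IsGeomUnibranch (Localization.AtPrime P)) :
    CAlg2.IsGeomUnibranch (Localization.AtPrime p) ∧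
      (IsDomain (Localization.AtPrime P) → IsDomain (Localization.AtPrime p)) := by
  obtain ⟨q, hqp, hq, ⟨e⟩⟩ := exists_tensor_localization_equiv A C P p hp
  haveI := hqp
  haveI := hG.1.1
  obtain ⟨h1, h2⟩ := isGeomUnibranch_tensor A C (Localization.AtPrime P) hG
    (NormalSmooth.isNormalRing_of_smooth (CAlg2.normRed (Localization.AtPrime P)) _ (isNormalRing_normRed _)) q hq
  exact ⟨isGeomUnibranch_of_ringEquiv e h1, fun hd => by
    haveI := h2 hd
    exact e.symm.toMulEquiv.isDomain _⟩

end Groth.Agent.Branch
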