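import Groth.Agent.BranchCount.Stages
import Groth.Agent.Branch.SmoothLocal
import Groth.Agent.Branch.BaseChange
import Groth.Agent.Hensel.HenselizationAscent
import Mathlib.RingTheory.Ideal.Height

/-!
# Geometrically unibranch points and connectedness of punctured strictly henselian spectra
-/

set_option autoImplicit false
set_option linter.style.haveILetI false
universe u

open IsLocalRing

namespace Groth.Agent.Branch

open Groth.Agent.Hensel

/-- A zero-dimensional local ring is geometrically unibranch. -/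
theorem isGeomUnibranch_of_maximal_mem_minimalPrimes (B : Type u) [CommRing B] [IsLocalRing B]
    (h : maximalIdeal B ∈ minimalPrimes B) : CAlg2.IsGeomUnibranch B := by
  haveI : Algebra.IsIntegral B (ResidueField B) :=
    ⟨fun x => (residue_surjective x).elim fun a ha => ha ▸ isIntegral_algebraMap⟩
  refine isGeomUnibranch_of_integral' (W := ResidueField B) (fun z hz => ?_) fun w => ?_
  · have h1 : z ∈ maximalIdeal B := (residue_eq_zero_iff z).1 hz
    rw [nilradical_eq_sInf, Ideal.mem_sInf]
    intro J hJ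
    exact h.2 ⟨hJ, bot_le⟩ (IsLocalRing.le_maximalIdeal (Ideal.IsPrime.ne_top hJ)) h1
  · obtain ⟨a, rfl⟩ := residue_surjective w
    exact ⟨0, a, by simp⟩

/-- The punctured spectrum of an irreducible local spectrum of positive dimension is connected. -/
theorem isConnected_punctured {S : Type u} [CommRing S] [IsLocalRing S] (hS : CAlgX.HasUniqueMinimalPrime S)
    (hm : maximalIdeal S ∉ minimalPrimes S) :
    IsConnected ({IsLocalRing.closedPoint S}ᶜ : Set (PrimeSpectrum S)) := by
  obtain ⟨P, hP, hu⟩ := hS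
  haveI := hP.1.1
  refine (isConnected_singleton (x := (⟨P, hP.1.1⟩ : PrimeSpectrum S))).subset_closure ?_ ?_
  · rw [Set.singleton_subset_iff]
    intro h
    exact hm (by rwa [show P = maximalIdeal S from congrArg PrimeSpectrum.asIdeal h] at hP)
  · intro Q _
    rw [← specializes_iff_mem_closure, ← PrimeSpectrum.le_iff_specializes]
    obtain ⟨P', hP', hle⟩ := Ideal.exists_minimalPrimes_le (I := (⊥ : Ideal S)) (J := Q.asIdeal) bot_le
    exact show P ≤ Q.asIdeal from hu P' hP' ▸ hle

/-- Connected punctured strictly henselian spectrum and geometrically unibranch generizations. -/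
theorem hasUniqueMinimalPrime_of_punctured (B S : Type u) [CommRing B] [IsLocalRing B] [IsNoetherianRing B]
    [CommRing S] [IsLocalRing S] [Algebra B S] [IsLocalHom (algebraMap B S)] [_root_.Hensel.IsStrictHenselization B S]
    (hsmall : ∀ (q : Ideal B) [q.IsPrime], q ≠ maximalIdeal B → CAlg2.IsGeomUnibranch (Localization.AtPrime q))
    (hm : maximalIdeal B ∉ minimalPrimes B)
    (hconn : IsPreconnected ({IsLocalRing.closedPoint S}ᶜ : Set (PrimeSpectrum S))) :
    CAlgX.HasUniqueMinimalPrime S := by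
  classical
  haveI : IsNoetherianRing S := Hensel.strictHenselization_isNoetherianRing (R := B)
  haveI : Module.Flat B S := Hensel.strictHenselization_flat
  have hmS : maximalIdeal S ∉ minimalPrimes S := fun h => hm (by
    have h1 := BranchCount.comap_mem_minimalPrimes_of_flat (R := B) h
    have h2 : (maximalIdeal S).comap (algebraMap B S) = maximalIdeal B :=
      ((local_hom_TFAE (algebraMap B S)).out 0 4).1 ‹IsLocalHom (algebraMap B S)›
    rwa [h2] at h1)
  obtain ⟨P1, hP1, -⟩ := Ideal.exists_minimalPrimes_le (I := (⊥ : Ideal S)) (J := maximalIdeal S) bot_le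
  refine ⟨P1, hP1, fun P2 hP2 => ?_⟩
  by_contra hne
  let s := minimalPrimes S \ {P1}
  have hs : s.Finite := (minimalPrimes.finite_of_isNoetherianRing S).subset fun P hP => hP.1
  have hU : ∀ P ∈ minimalPrimes S, ∀ hP : P.IsPrime,
      (⟨P, hP⟩ : PrimeSpectrum S) ∈ ({IsLocalRing.closedPoint S}ᶜ : Set (PrimeSpectrum S)) := fun P hP hP' h =>
    hmS (by rwa [show P = maximalIdeal S from congrArg PrimeSpectrum.asIdeal h] at hP)
  obtain ⟨Q, hQU, hQ1, hQ2⟩ := isPreconnected_closed_iff.1 hconn (PrimeSpectrum.zeroLocus P1)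
    (⋃ P ∈ s, PrimeSpectrum.zeroLocus (P : Set S)) (PrimeSpectrum.isClosed_zeroLocus _)
    (hs.isClosed_biUnion fun P _ => PrimeSpectrum.isClosed_zeroLocus _)
    (fun Q _ => by
      obtain ⟨P, hP, hle⟩ := Ideal.exists_minimalPrimes_le (I := (⊥ : Ideal S)) (J := Q.asIdeal) bot_le
      by_cases h : P = P1
      · exact Or.inl (h ▸ hle)
      · exact Or.inr (Set.mem_biUnion (show P ∈ s from ⟨hP, h⟩) hle))
    ⟨⟨P1, hP1.1.1⟩, hU P1 hP1 _, fun _ h => h⟩
    ⟨⟨P2, hP2.1.1⟩, hU P2 hP2 _, Set.mem_biUnion (show P2 ∈ s from ⟨hP2, hne⟩) fun _ h => h⟩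
  rw [Set.mem_iUnion₂] at hQ2
  obtain ⟨P, hPs, hPQ⟩ := hQ2
  -- separate `P` and `P1` in an etale stage
  obtain ⟨z, hzP, hz1⟩ : ∃ z ∈ P, z ∉ P1 := by
    by_contra hcon
    push Not at hcon
    exact hPs.2 (le_antisymm hcon (hP1.2 ⟨hPs.1.1.1, bot_le⟩ hcon))
  obtain ⟨e, -⟩ := Hensel.exists_algEquiv_hens_strict (R := B) (S := S)
  obtain ⟨X, c, hc⟩ := Hens.exists_rep (e.symm z)
  let f : X.carrier →ₐ[B] S := e.toAlgHom.comp (Hens.of X)
  have hfc : f c = z := by
    show e (Hens.of X c) = z
    rw [hc, e.apply_symm_apply]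
  letI : Algebra X.carrier S := f.toRingHom.toAlgebra
  haveI : IsScalarTower B X.carrier S := IsScalarTower.of_algebraMap_eq fun r => (f.commutes r).symm
  haveI : Module.Flat X.carrier S := Algebra.FormallyUnramified.flat_of_restrictScalars B X.carrier S
  let Qc := Q.asIdeal.comap (algebraMap X.carrier S)
  haveI : Qc.IsPrime := Ideal.IsPrime.comap _
  let qB := Q.asIdeal.comap (algebraMap B S)
  haveI : qB.IsPrime := Ideal.IsPrime.comap _
  have hqB : qB ≠ maximalIdeal B := fun h => hQU (PrimeSpectrum.ext (le_antisymm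
    (IsLocalRing.le_maximalIdeal Q.2.ne_top) (by
      show maximalIdeal S ≤ Q.asIdeal
      rw [← Hensel.strictHenselization_map_maximalIdeal (R := B) (S := S), ← h]
      exact Ideal.map_comap_le)))
  have hGU := (isGeomUnibranch_of_smooth_at B X.carrier qB Qc (by
    show (Q.asIdeal.comap _).comap _ = Q.asIdeal.comap _
    rw [Ideal.comap_comap, ← IsScalarTower.algebraMap_eq]) (hsmall qB hqB)).1
  obtain ⟨P0, -, hu⟩ := isPrime_nilradical_iff_unique.1 (isPrime_nilradical_of_geomUnibranch hGU)
  have key : ∀ (R : Ideal S), R ∈ minimalPrimes S → R ≤ Q.asIdeal →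
      (R.comap (algebraMap X.carrier S)).map (algebraMap X.carrier (Localization.AtPrime Qc)) = P0 ∧
      Ideal.comap (algebraMap X.carrier (Localization.AtPrime Qc))
        ((R.comap (algebraMap X.carrier S)).map (algebraMap X.carrier (Localization.AtPrime Qc))) =
          R.comap (algebraMap X.carrier S) := fun R hR hRQ => by
    have h1 := BranchCount.comap_mem_minimalPrimes_of_flat (R := X.carrier) hR
    haveI := h1.1.1
    have hdisj : Disjoint (Qc.primeCompl : Set X.carrier) (R.comap (algebraMap X.carrier S) : Set X.carrier) :=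
      Set.disjoint_left.2 fun a ha hb => ha (hRQ hb)
    have hpr := IsLocalization.isPrime_of_isPrime_disjoint Qc.primeCompl (Localization.AtPrime Qc) _ inferInstance hdisj
    have hcm := IsLocalization.comap_map_of_isPrime_disjoint Qc.primeCompl (Localization.AtPrime Qc) inferInstance hdisj
    refine ⟨hu _ ⟨⟨hpr, bot_le⟩, fun J hJ hle => ?_⟩, hcm⟩
    refine Ideal.map_le_iff_le_comap.2 (h1.2 ⟨hJ.1.comap _, bot_le⟩ ?_)
    exact (Ideal.comap_mono hle).trans hcm.le
  obtain ⟨ha, ha'⟩ := key P hPs.1 hPQ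
  obtain ⟨hb, hb'⟩ := key P1 hP1 hQ1
  rw [ha] at ha'
  rw [hb] at hb'
  refine hz1 ?_
  have hc1 : c ∈ P.comap (algebraMap X.carrier S) := by
    show f c ∈ P
    rw [hfc]; exact hzP
  rw [← ha', hb'] at hc1
  rw [← hfc]
  exact hc1

end Groth.Agent.Branch
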