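import Groth.Agent.Branch.Core

/-!
# A unique branch over the strict henselization forces purely inseparable residue extension
-/

set_option autoImplicit false
universe u

open TensorProduct IsLocalRing

namespace Groth.Agent.Branch

/-- A separable element outside the base field has two different values under embeddings. -/
theorem exists_two_embeddings {k K L Ω : Type u} [Field k] [Field K] [Field L] [Field Ω] [Algebra k K]
    [Algebra.IsAlgebraic k K] [Algebra k L] [IsSepClosed L] [Algebra k Ω] [Algebra L Ω] [IsScalarTower k L Ω]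
    [IsAlgClosed Ω] {x : K} (hx : IsSeparable k x) (hxk : x ∉ (algebraMap k K).range) :
    ∃ (ψ₁ ψ₂ : K →ₐ[k] Ω) (r : L), ψ₁ x = algebraMap L Ω r ∧ ψ₂ x ≠ algebraMap L Ω r := by
  classical
  have hint : IsIntegral k x := Algebra.IsIntegral.isIntegral x
  have hdeg : 2 ≤ (minpoly k x).natDegree := by
    rcases Nat.lt_or_ge (minpoly k x).natDegree 2 with h | h
    · exact absurd ((minpoly.mem_range_of_degree_eq_one k x) (by
        rw [Polynomial.degree_eq_natDegree (minpoly.ne_zero hint)]
        have := minpoly.natDegree_pos hint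
        exact_mod_cast (show (minpoly k x).natDegree = 1 by omega))) hxk
    · exact h
  have hcard : Fintype.card ((minpoly k x).rootSet L) = (minpoly k x).natDegree :=
    Polynomial.card_rootSet_eq_natDegree hx (IsSepClosed.splits_codomain _ hx)
  obtain ⟨⟨r₁, hr₁⟩, ⟨r₂, hr₂⟩, hne⟩ := Fintype.one_lt_card_iff.1 (hcard.symm ▸ hdeg : 1 < Fintype.card ((minpoly k x).rootSet L))
  have hψ : ∀ r ∈ (minpoly k x).rootSet L, ∃ ψ : K →ₐ[k] Ω, ψ x = algebraMap L Ω r := fun r hr => by
    have h1 : algebraMap L Ω r ∈ (minpoly k x).rootSet Ω := by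
      rw [Polynomial.mem_rootSet] at hr ⊢
      exact ⟨hr.1, by rw [Polynomial.aeval_algebraMap_apply, hr.2, map_zero]⟩
    rw [← Algebra.IsAlgebraic.range_eval_eq_rootSet_minpoly Ω x] at h1
    exact h1
  obtain ⟨ψ₁, h₁⟩ := hψ r₁ hr₁
  obtain ⟨ψ₂, h₂⟩ := hψ r₂ hr₂
  refine ⟨ψ₁, ψ₂, r₁, h₁, fun h => hne (Subtype.ext ((algebraMap L Ω).injective (h.symm.trans h₂)))⟩

variable {A : Type u} [CommRing A] [IsLocalRing A] {S : Type u} [CommRing S] [IsLocalRing S] [Algebra A S]

theorem isLocalHom_algebraMap_normRed [IsLocalRing (CAlg2.normRed A)] :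
    IsLocalHom (algebraMap A (CAlg2.normRed A)) :=
  ((IsLocalRing.local_hom_TFAE (algebraMap A (CAlg2.normRed A))).out 0 4).2
    (IsLocalRing.eq_maximalIdeal (Ideal.isMaximal_comap_of_isIntegral_of_isMaximal _))

theorem insep_of_unique_maximal [IsLocalRing (CAlg2.normRed A)] [IsLocalHom (algebraMap A S)]
    [IsSepClosed (ResidueField S)]
    (h : ∃! m : Ideal (CAlg2.normRed A ⊗[A] S), m.IsMaximal) (y : CAlg2.normRed A) :
    ∃ (n : ℕ) (a : A),
      y ^ ringExpChar (ResidueField (CAlg2.normRed A)) ^ n - algebraMap A _ a ∈ maximalIdeal (CAlg2.normRed A) := by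
  haveI := isLocalHom_algebraMap_normRed (A := A)
  haveI : Algebra.IsAlgebraic (ResidueField A) (ResidueField (CAlg2.normRed A)) := by
    refine ⟨fun x => ?_⟩
    obtain ⟨b, rfl⟩ := IsLocalRing.residue_surjective x
    have hb : IsIntegral A b := Algebra.IsIntegral.isIntegral b
    exact ((hb.map (IsScalarTower.toAlgHom A (CAlg2.normRed A) (ResidueField (CAlg2.normRed A)))).tower_top
      (A := ResidueField A)).isAlgebraic
  let Ω := AlgebraicClosure (ResidueField S)
  haveI hins : IsPurelyInseparable (ResidueField A) (ResidueField (CAlg2.normRed A)) := by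
    rw [← separableClosure.eq_bot_iff, eq_bot_iff]
    intro x hx
    rw [IntermediateField.mem_bot]
    by_contra hxk
    obtain ⟨ψ₁, ψ₂, r, h₁, h₂⟩ := exists_two_embeddings (L := ResidueField S) (Ω := Ω)
      (mem_separableClosure_iff.1 hx) hxk
    obtain ⟨b, rfl⟩ := IsLocalRing.residue_surjective x
    obtain ⟨s, rfl⟩ := IsLocalRing.residue_surjective r
    let g : S →ₐ[A] Ω := (IsScalarTower.toAlgHom A (ResidueField S) Ω).comp (IsScalarTower.toAlgHom A S (ResidueField S))
    let F : (ResidueField (CAlg2.normRed A) →ₐ[ResidueField A] Ω) → (CAlg2.normRed A ⊗[A] S →ₐ[A] Ω) := fun ψ =>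
      Algebra.TensorProduct.lift ((ψ.restrictScalars A).comp (IsScalarTower.toAlgHom A _ _)) g
        (fun _ _ => Commute.all _ _)
    have hmax : ∀ ψ, (RingHom.ker (F ψ).toRingHom).IsMaximal := fun ψ => by
      haveI : (RingHom.ker (F ψ).toRingHom).IsPrime := RingHom.ker_isPrime _
      refine Ideal.isMaximal_of_isIntegral_of_isMaximal_comap' (R := S) (S := CAlg2.normRed A ⊗[A] S)
        (Algebra.TensorProduct.includeRight.toRingHom : S →+* CAlg2.normRed A ⊗[A] S) isIntegral_includeRight _ ?_
      have : (RingHom.ker (F ψ).toRingHom).comap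
          (Algebra.TensorProduct.includeRight.toRingHom : S →+* CAlg2.normRed A ⊗[A] S) = maximalIdeal S := by
        rw [RingHom.comap_ker]
        refine (congrArg RingHom.ker (RingHom.ext fun t => ?_ : _ = (algebraMap (ResidueField S) Ω).comp (residue S))).trans ?_
        · show F ψ ((1 : CAlg2.normRed A) ⊗ₜ[A] t) = _
          simp [F, g]
        · rw [RingHom.ker_comp_of_injective _ (RingHom.injective _), IsLocalRing.ker_residue]
      rw [this]
      exact maximalIdeal.isMaximal S
    obtain ⟨M, -, hM⟩ := h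
    have hz : (b ⊗ₜ[A] (1 : S) - (1 : CAlg2.normRed A) ⊗ₜ[A] s) ∈ RingHom.ker (F ψ₁).toRingHom := by
      rw [RingHom.mem_ker]
      show F ψ₁ _ = 0
      rw [map_sub]
      simp [F, g, sub_eq_zero]
      exact h₁
    rw [hM _ (hmax ψ₁), ← hM _ (hmax ψ₂), RingHom.mem_ker] at hz
    apply h₂
    rw [← sub_eq_zero]
    refine Eq.trans ?_ hz
    show _ = F ψ₂ _
    rw [map_sub]
    simp [F, g]
  set q := ringExpChar (ResidueField A) with hq
  haveI : ExpChar (ResidueField A) q := ringExpChar.expChar _
  haveI : ExpChar (ResidueField (CAlg2.normRed A)) q :=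
    expChar_of_injective_algebraMap (algebraMap (ResidueField A) _).injective q
  rw [ringExpChar.eq (ResidueField (CAlg2.normRed A)) q]
  obtain ⟨n, c, hc⟩ := (isPurelyInseparable_iff_pow_mem (ResidueField A) q).1 hins (residue _ y)
  obtain ⟨a, rfl⟩ := IsLocalRing.residue_surjective c
  refine ⟨n, a, ?_⟩
  rw [← IsLocalRing.residue_eq_zero_iff, map_sub, map_pow, sub_eq_zero, ← hc]
  exact (ResidueField.algebraMap_residue a).trans rfl

end Groth.Agent.Branch
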