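import Groth.Agent.Branch.Criterion
import Groth.Agent.NormalSmooth.Basic

/-!
# Smooth algebras over strictly henselian domains are geometrically unibranch at the closed fibre
-/

set_option autoImplicit false
universe u

open TensorProduct IsLocalRing

namespace Groth.Agent.Branch

/-- A normal ring stays a domain, integrally closed, in any local ring of fractions. -/
theorem isDomain_and_isIntegrallyClosed_of_isLocalization {B W : Type u} [CommRing B] [CommRing W]
    [IsLocalRing W] [Algebra B W] (M0 : Submonoid B) [IsLocalization M0 W] (hB : EGA4.IsNormalRing B) :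
    IsDomain W ∧ IsIntegrallyClosed W := by
  haveI : IsLocalization.AtPrime W (maximalIdeal W) := IsLocalization.self fun s hs =>
    IsLocalRing.notMem_maximalIdeal.1 hs
  haveI := IsLocalization.isLocalization_isLocalization_atPrime_isLocalization (R := B) (S := W) M0 (T := W) (maximalIdeal W)
  obtain ⟨h1, h2⟩ := hB ((maximalIdeal W).comap (algebraMap B W))
  haveI := h1; haveI := h2
  let e : Localization.AtPrime ((maximalIdeal W).comap (algebraMap B W)) ≃ₐ[B] W :=
    IsLocalization.algEquiv ((maximalIdeal W).comap (algebraMap B W)).primeCompl _ _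
  exact ⟨e.symm.toRingEquiv.toMulEquiv.isDomain _, IsIntegrallyClosed.of_equiv e.toRingEquiv⟩

theorem isIntegral_of_gen {R Rt R' B : Type u} [CommRing R] [CommRing Rt] [Algebra R Rt] [Algebra.IsIntegral R Rt]
    [CommRing R'] [Algebra R R'] [CommRing B] [Algebra R' B] (iB : Rt →+* B)
    (hcomp : ∀ a : R, iB (algebraMap R Rt a) = algebraMap R' B (algebraMap R R' a))
    (genB : ∀ P : B → Prop, P 0 → (∀ y x, P (iB y * algebraMap R' B x)) → (∀ z w, P z → P w → P (z + w)) → ∀ z, P z) :
    Algebra.IsIntegral R' B := by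
  refine ⟨genB _ isIntegral_zero (fun y x => ?_) fun z w hz hw => hz.add hw⟩
  refine IsIntegral.mul ?_ isIntegral_algebraMap
  obtain ⟨P, hP, hP'⟩ := Algebra.IsIntegral.isIntegral (R := R) y
  refine ⟨P.map (algebraMap R R'), hP.map _, ?_⟩
  rw [Polynomial.eval₂_map, show (algebraMap R' B).comp (algebraMap R R') = iB.comp (algebraMap R Rt) from
    RingHom.ext fun a => (hcomp a).symm, ← Polynomial.hom_eval₂, hP', map_zero]

theorem isGeomUnibranch_of_normal_baseChange (R Rt R' B : Type u) [CommRing R] [HenselianLocalRing R]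
    [IsSepClosed (ResidueField R)] [CommRing Rt] [IsLocalRing Rt] [Algebra R Rt] [Algebra.IsIntegral R Rt]
    [IsLocalHom (algebraMap R Rt)]
    [CommRing R'] [Algebra R R'] [CommRing B] [Algebra R' B] [Algebra.IsIntegral R' B] (iB : Rt →+* B)
    (hcomp : ∀ a : R, iB (algebraMap R Rt a) = algebraMap R' B (algebraMap R R' a))
    (genB : ∀ P : B → Prop, P 0 → (∀ y x, P (iB y * algebraMap R' B x)) → (∀ z w, P z → P w → P (z + w)) → ∀ z, P z)
    (hBn : EGA4.IsNormalRing B) (hinjB : Function.Injective (algebraMap R' B))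
    (p : Ideal R') [p.IsPrime] (hp : (maximalIdeal R).map (algebraMap R R') ≤ p) :
    IsDomain (Localization.AtPrime p) ∧ CAlg2.IsGeomUnibranch (Localization.AtPrime p) := by
  let M0 := Algebra.algebraMapSubmonoid B p.primeCompl
  let W := Localization M0
  letI : Algebra (Localization.AtPrime p) W := localizationAlgebra p.primeCompl B
  have hmap : ∀ x, algebraMap (Localization.AtPrime p) W (algebraMap R' _ x) =
      algebraMap B W (algebraMap R' _ x) := fun x => IsLocalization.map_eq _ x
  haveI hWint : Algebra.IsIntegral (Localization.AtPrime p) W :=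
    algebraMap_isIntegral_iff.1 (isIntegral_localization (R := R') (S := B) (M := p.primeCompl)
      (Rₘ := Localization.AtPrime p) (Sₘ := W))
  have hWinj : Function.Injective (algebraMap (Localization.AtPrime p) W) := by
    haveI : IsLocalization (p.primeCompl.map (algebraMap R' B)) W := Localization.isLocalization
    exact IsLocalization.map_injective_of_injective (M := p.primeCompl) (S := Localization.AtPrime p) (Q := W) hinjB
  haveI : Nontrivial W := hWinj.nontrivial
  let iL : Rt →+* W := (algebraMap B W).comp iB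
  let iR : Localization.AtPrime p →+* W := algebraMap (Localization.AtPrime p) W
  have hRR : ∀ a : R, iL (algebraMap R Rt a) = iR (algebraMap R' _ (algebraMap R R' a)) := fun a => by
    show algebraMap B W _ = algebraMap (Localization.AtPrime p) W _
    rw [hmap]
    congr 1
    exact hcomp a
  have hcL : ∀ (M : Ideal W) [M.IsMaximal], M.comap iR = maximalIdeal (Localization.AtPrime p) ∧
      M.comap iL = maximalIdeal Rt := fun M hM => by
    have h1 : M.comap iR = maximalIdeal (Localization.AtPrime p) :=
      IsLocalRing.eq_maximalIdeal (Ideal.isMaximal_comap_of_isIntegral_of_isMaximal M)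
    refine ⟨h1, IsLocalRing.eq_maximalIdeal ?_⟩
    haveI : (M.comap iL).IsPrime := hM.isPrime.comap _
    refine Ideal.isMaximal_of_isIntegral_of_isMaximal_comap (R := R) _ ?_
    have : (M.comap iL).comap (algebraMap R Rt) = maximalIdeal R := by
      refine ((IsLocalRing.maximalIdeal.isMaximal R).eq_of_le ((hM.isPrime.comap _).comap _).ne_top fun a ha => ?_).symm
      show iL (algebraMap R Rt a) ∈ M
      rw [hRR, ← Ideal.mem_comap, h1, ← Ideal.mem_comap]
      rw [show (maximalIdeal (Localization.AtPrime p)).comap (algebraMap R' _) = p from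
        IsLocalization.AtPrime.comap_maximalIdeal (Localization.AtPrime p) p]
      exact hp (Ideal.mem_map_of_mem _ ha)
    rw [this]; exact maximalIdeal.isMaximal R
  haveI : Algebra.IsAlgebraic (ResidueField R) (ResidueField Rt) := by
    refine ⟨fun x => ?_⟩
    obtain ⟨b, rfl⟩ := IsLocalRing.residue_surjective x
    exact (((Algebra.IsIntegral.isIntegral (R := R) b).map
      (IsScalarTower.toAlgHom R Rt (ResidueField Rt))).tower_top (A := ResidueField R)).isAlgebraic
  set q := ringExpChar (ResidueField Rt) with hq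
  haveI : ExpChar (ResidueField Rt) q := ringExpChar.expChar _
  haveI : ExpChar (ResidueField R) q :=
    (RingHom.expChar (algebraMap (ResidueField R) (ResidueField Rt)) (RingHom.injective _) q)
  have hins : ∀ y : Rt, ∃ (n : ℕ) (a : R), y ^ q ^ n - algebraMap R Rt a ∈ maximalIdeal Rt := fun y => by
    obtain ⟨n, c, hc⟩ := (isPurelyInseparable_iff_pow_mem (ResidueField R) q).1 inferInstance (residue _ y)
    obtain ⟨a, rfl⟩ := IsLocalRing.residue_surjective c
    refine ⟨n, a, ?_⟩
    rw [← IsLocalRing.residue_eq_zero_iff, map_sub, map_pow, sub_eq_zero, ← hc]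
    exact (ResidueField.algebraMap_residue a).trans rfl
  have gen : ∀ P : W → Prop, P 0 → (∀ y s, P (iL y * iR s)) → (∀ z w, P z → P w → P (z + w)) → ∀ z, P z := by
    intro P h0 hm hadd z
    obtain ⟨⟨b, ⟨_, s, hs, rfl⟩⟩, hbs⟩ := IsLocalization.surj M0 z
    obtain ⟨u, hu⟩ := IsLocalization.map_units (Localization.AtPrime p) (⟨s, hs⟩ : p.primeCompl)
    have hz : z = algebraMap B W b * iR ↑u⁻¹ := by
      rw [← hbs]
      show z = z * algebraMap B W (algebraMap R' _ s) * iR ↑u⁻¹
      rw [← hmap s]
      show z = z * iR (algebraMap R' _ s) * iR ↑u⁻¹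
      rw [mul_assoc, ← map_mul, ← (hu : (u : Localization.AtPrime p) = algebraMap R' _ s), Units.mul_inv, map_one, mul_one]
    rw [hz]
    clear hbs hz z
    refine genB (fun b => P (algebraMap B W b * iR ↑u⁻¹)) (by simpa using h0) (fun y x => ?_)
      (fun a c ha hc => by simpa [add_mul] using hadd _ _ ha hc) b
    have h2 : algebraMap B W (iB y * algebraMap R' B x) * iR ↑u⁻¹ = iL y * iR (algebraMap R' _ x * ↑u⁻¹) := by
      rw [map_mul iR, ← mul_assoc, map_mul]
      congr 1
      show _ = algebraMap B W (iB y) * algebraMap (Localization.AtPrime p) W (algebraMap R' _ x)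
      rw [hmap]
    show P _
    rw [h2]; exact hm _ _
  obtain ⟨M, hM⟩ := Ideal.exists_maximal W
  haveI := hM
  haveI hWloc : IsLocalRing W := IsLocalRing.of_unique_max_ideal ⟨M, hM, fun M' hM' => by
    haveI := hM'
    exact eq_of_insep iL iR gen (hcL M).2 (hcL M').2 (hcL M).1 (hcL M').1 fun y => by
      obtain ⟨n, a, ha⟩ := hins y
      refine ⟨n, algebraMap R' _ (algebraMap R R' a), fun N hN => ?_⟩
      rw [← hRR, ← map_pow, ← map_sub iL]
      exact hN (Ideal.mem_map_of_mem _ ha)⟩
  obtain ⟨hD, hI⟩ := isDomain_and_isIntegrallyClosed_of_isLocalization (W := W) M0 hBn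
  haveI := hD; haveI := hI
  refine isGeomUnibranch_of_integral hWinj fun w => ?_
  haveI : Nontrivial (W ⧸ maximalIdeal W) := Ideal.Quotient.nontrivial_iff.2 (maximalIdeal.isMaximal W).ne_top
  obtain ⟨N, s, hs⟩ := exists_pow_of_insep iL iR gen (maximalIdeal W)
    (Ideal.map_le_iff_le_comap.2 (hcL (maximalIdeal W)).2.ge) (fun y => by
      obtain ⟨n, a, ha⟩ := hins y
      refine ⟨n, algebraMap R' _ (algebraMap R R' a), ?_⟩
      rw [← hRR, ← map_pow, ← map_sub iL]
      rw [← Ideal.mem_comap, (hcL (maximalIdeal W)).2]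
      exact ha) w
  haveI : IsLocalHom iL := ((IsLocalRing.local_hom_TFAE iL).out 0 4).2 (hcL (maximalIdeal W)).2
  haveI : ExpChar (ResidueField W) q :=
    expChar_of_injective_ringHom (f := ResidueField.map iL) (RingHom.injective _) q
  refine ⟨N, s, ?_⟩
  rw [ringExpChar.eq (ResidueField W) q]
  exact hs

theorem isGeomUnibranch_smooth (R R' : Type u) [CommRing R] [IsDomain R] [HenselianLocalRing R]
    [IsSepClosed (ResidueField R)] [CommRing R'] [Algebra R R'] [Algebra.Smooth R R']
    (p : Ideal R') [p.IsPrime] (hp : (maximalIdeal R).map (algebraMap R R') ≤ p) :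
    IsDomain (Localization.AtPrime p) ∧ CAlg2.IsGeomUnibranch (Localization.AtPrime p) := by
  let Rt := integralClosure R (FractionRing R)
  haveI : IsLocalRing Rt := NormSH.isLocalRing_of_isDomain_integral R Rt
  haveI : IsIntegrallyClosed Rt := integralClosure.isIntegrallyClosedOfFiniteExtension (FractionRing R)
  haveI : Algebra.IsIntegral R Rt := inferInstance
  have hnorm : EGA4.IsNormalRing Rt := fun q _ => ⟨inferInstance,
    isIntegrallyClosed_of_isLocalization (Localization.AtPrime q) q.primeCompl q.primeCompl_le_nonZeroDivisors⟩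
  have hinj0 : Function.Injective (algebraMap R Rt) := fun x y h =>
    IsFractionRing.injective R (FractionRing R) (congrArg Subtype.val h)
  haveI : IsLocalHom (algebraMap R Rt) :=
    (algebraMap_isIntegral_iff.2 ‹Algebra.IsIntegral R Rt›).isLocalHom hinj0
  haveI : Algebra.Smooth Rt (Rt ⊗[R] R') := inferInstance
  have hBn : EGA4.IsNormalRing (Rt ⊗[R] R') := NormalSmooth.isNormalRing_of_smooth Rt _ hnorm
  let iB : Rt →+* Rt ⊗[R] R' := Algebra.TensorProduct.includeLeftRingHom
  let iC : R' →+* Rt ⊗[R] R' := Algebra.TensorProduct.includeRight.toRingHom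
  letI : Algebra R' (Rt ⊗[R] R') := iC.toAlgebra
  have hcomp : ∀ a : R, iB (algebraMap R Rt a) = algebraMap R' (Rt ⊗[R] R') (algebraMap R R' a) := fun a => by
    show algebraMap R Rt a ⊗ₜ[R] (1 : R') = (1 : Rt) ⊗ₜ[R] algebraMap R R' a
    rw [Algebra.algebraMap_eq_smul_one, Algebra.algebraMap_eq_smul_one, smul_tmul]
  have genB : ∀ P : (Rt ⊗[R] R') → Prop, P 0 → (∀ y x, P (iB y * algebraMap R' _ x)) →
      (∀ z w, P z → P w → P (z + w)) → ∀ z, P z := fun P h0 hm ha z => by
    induction z using TensorProduct.induction_on with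
    | zero => exact h0
    | add z w hz hw => exact ha z w hz hw
    | tmul y x =>
      have h1 : y ⊗ₜ[R] x = iB y * algebraMap R' (Rt ⊗[R] R') x := by
        show y ⊗ₜ[R] x = (y ⊗ₜ[R] (1 : R')) * ((1 : Rt) ⊗ₜ[R] x)
        rw [Algebra.TensorProduct.tmul_mul_tmul, one_mul, mul_one]
      exact h1 ▸ hm y x
  haveI := isIntegral_of_gen (R := R) (Rt := Rt) (R' := R') (B := Rt ⊗[R] R') iB hcomp genB
  exact isGeomUnibranch_of_normal_baseChange R Rt R' (B := Rt ⊗[R] R') iB hcomp genB hBn
    (Algebra.TensorProduct.includeRight_injective (R := R) (A := Rt) (B := R') hinj0) p hp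

end Groth.Agent.Branch
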