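import Groth.Agent.Branch.SmoothLocal
import Mathlib.AlgebraicGeometry.Morphisms.Smooth
import Mathlib.AlgebraicGeometry.Morphisms.Etale

/-!
# Smooth morphisms preserve geometrically unibranch points
-/

set_option autoImplicit false
universe u

open CategoryTheory AlgebraicGeometry IsLocalRing

namespace Groth.Agent.Branch

theorem isGeomUnibranch_stalk_of_smooth {X Y : Scheme.{u}} (g : X ⟶ Y) [Smooth g] (x : X)
    (hY : CAlg2.IsGeomUnibranch (Y.presheaf.stalk (g x))) :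
    CAlg2.IsGeomUnibranch (X.presheaf.stalk x) ∧
      (IsDomain (Y.presheaf.stalk (g x)) → IsDomain (X.presheaf.stalk x)) := by
  obtain ⟨_, ⟨U, hU, rfl⟩, hxU, -⟩ :=
    Y.isBasis_affineOpens.exists_subset_of_mem_open (Set.mem_univ (g x)) isOpen_univ
  obtain ⟨_, ⟨V, hV, rfl⟩, hxV, hVU⟩ :=
    X.isBasis_affineOpens.exists_subset_of_mem_open hxU (U.2.preimage g.continuous)
  letI := (g.appLE U V hVU).hom.toAlgebra
  haveI : Algebra.Smooth Γ(Y, U) Γ(X, V) := g.smooth_appLE hU hV hVU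
  let P := (hU.primeIdealOf ⟨g x, hVU hxV⟩).asIdeal
  let p := (hV.primeIdealOf ⟨x, hxV⟩).asIdeal
  have hp : p.comap (algebraMap Γ(Y, U) Γ(X, V)) = P :=
    congr($(IsAffineOpen.comap_primeIdealOf_appLE (f := g) U hU V hV hVU hxV).1)
  letI := TopCat.Presheaf.algebra_section_stalk Y.presheaf (⟨g x, hVU hxV⟩ : ↥U)
  haveI := hU.isLocalization_stalk ⟨g x, hVU hxV⟩
  letI := TopCat.Presheaf.algebra_section_stalk X.presheaf (⟨x, hxV⟩ : ↥V)
  haveI := hV.isLocalization_stalk ⟨x, hxV⟩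
  let eY : Localization.AtPrime P ≃ₐ[Γ(Y, U)] Y.presheaf.stalk (g x) :=
    IsLocalization.algEquiv P.primeCompl _ _
  let eX : Localization.AtPrime p ≃ₐ[Γ(X, V)] X.presheaf.stalk x :=
    IsLocalization.algEquiv p.primeCompl _ _
  obtain ⟨h1, h2⟩ := isGeomUnibranch_of_smooth_at Γ(Y, U) Γ(X, V) P p hp
    (isGeomUnibranch_of_ringEquiv eY.symm.toRingEquiv hY)
  refine ⟨isGeomUnibranch_of_ringEquiv eX.toRingEquiv h1, fun hd => ?_⟩
  haveI := hd
  haveI := h2 (eY.toRingEquiv.toMulEquiv.isDomain _)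
  exact eX.symm.toRingEquiv.toMulEquiv.isDomain _

end Groth.Agent.Branch
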